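import Mathlib
import Cfsg.Agent.Lib.Mod.PReduce

/-! Unipotent elements in characteristic `p`. -/

namespace Cfsg.Agent.Mod

open Module Polynomial Subgroup

variable {k V : Type*} [Field k] [AddCommGroup V] [Module k V]

theorem geom_eq_sub_one_pow {p : ℕ} [hp : Fact p.Prime] [CharP k p] (n : ℕ) :
    (∑ i ∈ Finset.range (p ^ n), (X : k[X]) ^ i) = (X - 1) ^ (p ^ n - 1) := by
  refine mul_right_cancel₀ (X_sub_C_ne_zero 1) ?_
  rw [C_1, geom_sum_mul, ← pow_succ, Nat.sub_add_cancel (pow_pos hp.out.pos n), sub_pow_char_pow,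
    one_pow]

theorem aeval_geom_eq_pow {p : ℕ} [hp : Fact p.Prime] [CharP k p] (n : ℕ) (T : End k V) :
    aeval T (∑ i ∈ Finset.range (p ^ n), (X : k[X]) ^ i) = (T - 1) ^ (p ^ n - 1) := by
  rw [geom_eq_sub_one_pow, map_pow, map_sub, aeval_X, map_one]

variable [FiniteDimensional k V]

theorem finrank_le_finrank_map_add {W : Type*} [AddCommGroup W] [Module k W] (f : V →ₗ[k] W)
    (U : Submodule k V) : finrank k U ≤ finrank k (U.map f) + finrank k (LinearMap.ker f) := by
  rw [← LinearMap.finrank_range_add_finrank_ker (f.domRestrict U), LinearMap.range_domRestrict,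
    LinearMap.ker_domRestrict, ← Submodule.finrank_map_subtype_eq U, Submodule.map_comap_subtype]
  exact Nat.add_le_add_left (Submodule.finrank_mono inf_le_right) _

theorem finrank_ker_pow_le (T : End k V) (n : ℕ) :
    finrank k (LinearMap.ker (T ^ n)) ≤ n * finrank k (LinearMap.ker T) := by
  induction n with
  | zero => simp [Module.End.one_eq_id]
  | succ n ih =>
    refine (finrank_le_finrank_map_add T _).trans ?_
    rw [add_mul, one_mul]
    refine Nat.add_le_add_right ((Submodule.finrank_mono ?_).trans ih) _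
    rintro _ ⟨v, hv, rfl⟩
    rwa [LinearMap.mem_ker, ← Module.End.mul_apply, ← pow_succ]

theorem finrank_eq_of_pow_eq_zero {T : End k V} {n : ℕ} (h1 : T ^ (n + 1) = 0) (h2 : T ^ n ≠ 0)
    (h3 : finrank k (LinearMap.ker T) = 1) : finrank k V = n + 1 := by
  refine le_antisymm ?_ (Nat.succ_le_of_lt (lt_of_not_ge fun h => h2 ?_))
  · have := finrank_ker_pow_le T (n + 1)
    rwa [h1, LinearMap.ker_zero, finrank_top, h3, mul_one] at this
  · rw [← LinearMap.ker_eq_top, Module.End.ker_pow_eq_ker_pow_finrank_of_le h,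
      ← Module.End.ker_pow_eq_ker_pow_finrank_of_le (h.trans n.le_succ), h1, LinearMap.ker_zero]

end Cfsg.Agent.Mod
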