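import Mathlib
import Cfsg.Agent.Lib.Mod.LemmaX
import Cfsg.Agent.Lib.Coprime.AxB

/-! Minimal invariant subgroups of given Fitting height. -/

set_option autoImplicit false

namespace Cfsg.Agent.Mod

open Subgroup
open scoped commutatorElement

universe u

variable {Γ Γ' : Type*} [Group Γ] [Group Γ']

/-- `a` is an element of order dividing `r` acting on the solvable `r'`-group `G`. -/
structure Ctx (r : ℕ) (G : Subgroup Γ) (a : Γ) : Prop where
  normal : G.Normal
  sup : G ⊔ zpowers a = ⊤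
  sol : Group.IsSolvable G
  pow : a ^ r = 1
  cop : ¬ r ∣ Nat.card G

/-- `G` is minimal among the `a`-invariant subgroups of Fitting height greater than `m`. -/
def SubMin (G : Subgroup Γ) (a : Γ) (m : ℕ) : Prop :=
  lns G m ≠ ⊥ ∧ ∀ H < G, a ∈ normalizer (H : Set Γ) → lns H m = ⊥

/-- An elementary abelian or special normal subgroup that is irreducible modulo its derived
subgroup. -/
structure Layer (s : ℕ) (L : Subgroup Γ) : Prop where
  pgrp : IsPGroup s L
  cls : ⁅L, L⁆ ≤ centralizer (L : Set Γ)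
  cen : ⁅L, L⁆ = ⊥ ∨ L ⊓ centralizer (L : Set Γ) ≤ ⁅L, L⁆
  chief : IsChiefFactor L ⁅L, L⁆

variable {r : ℕ} {G : Subgroup Γ} {a : Γ}

theorem Ctx.coprime [Finite Γ] (h : Ctx r G a) (hr : r.Prime) {H : Subgroup Γ} (hH : H ≤ G) :
    (Nat.card (zpowers a)).Coprime (Nat.card H) := by
  rw [Nat.card_zpowers]
  exact (((Nat.Prime.coprime_iff_not_dvd hr).2 h.cop).coprime_dvd_left
    (orderOf_dvd_of_pow_eq_one h.pow)).coprime_dvd_right (card_dvd_of_le hH)

theorem Ctx.map (h : Ctx r G a) {π : Γ →* Γ'} (hπ : Function.Surjective π) :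
    Ctx r (G.map π) (π a) where
  normal := h.normal.map π hπ
  sup := by rw [← MonoidHom.map_zpowers, ← Subgroup.map_sup, h.sup, map_top_of_surjective _ hπ]
  sol := Core.isSolvable_map h.sol π
  pow := by rw [← map_pow, h.pow, map_one]
  cop := fun e => h.cop (e.trans (card_map_dvd G π))

theorem Ctx.normal_of (h : Ctx r G a) {H : Subgroup Γ} (h1 : G ≤ normalizer (H : Set Γ))
    (h2 : a ∈ normalizer (H : Set Γ)) : H.Normal :=
  Core.normal_iff_top_le_normalizer.2 (h.sup.ge.trans (sup_le h1 (zpowers_le.2 h2)))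

variable [Finite Γ]

theorem commutator_le_nres {L X Y : Subgroup Γ} (hY : Y ≤ X) (hYL : Y ≤ normalizer (L : Set Γ))
    (hL : L ≤ normalizer (X : Set Γ)) (hcop : (Nat.card Y).Coprime (Nat.card L))
    (hsol : Group.IsSolvable L) : ⁅L, Y⁆ ≤ nres X := by
  refine le_nres_of_le_commutator ?_ ?_
  · rw [commutator_comm]
    exact (commutator_mono hY le_rfl).trans (Coprime.commutator_le_of_le_normalizer hL)
  · exact (Coprime.commutator_commutator_eq hYL hcop (Or.inr hsol)).ge.trans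
      (commutator_mono le_rfl hY)

theorem lns_le_sup {G H N : Subgroup Γ} [N.Normal] (h : G ≤ N ⊔ H) (j : ℕ) :
    lns G j ≤ N ⊔ lns H j := by
  rw [sup_comm] at h ⊢
  rw [← Core.map_mk_le_map_mk_iff] at h ⊢
  rw [map_lns, map_lns]
  exact lns_mono h j

theorem normalizer_le_normalizer_of_isSylowIn {p : ℕ} [Fact p.Prime] {R X : Subgroup Γ}
    (h : Coprime.IsSylowIn p R X) (hX : Group.IsNilpotent X) :
    normalizer (X : Set Γ) ≤ normalizer (R : Set Γ) := by
  obtain ⟨S, -, hS⟩ := h.exists_sylow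
  have := Core.isNilpotent_iff_sylow_normal.1 hX p inferInstance S
  have h1 : X ≤ normalizer (R : Set Γ) := hS ▸ Core.le_normalizer_map_subtype X _
  have h2 : R = pCoreOf p X := le_antisymm (Core.le_pCoreOf h.1 h1 h.2.1)
    (h.le_of_le_normalizer' (Core.pCoreOf_le X) (Core.isPGroup_pCoreOf X)
      ((Core.pCoreOf_le X).trans h1))
  rw [h2]
  exact Core.normalizer_le_normalizer_pCoreOf X

theorem le_nres_sup_normalizer {p : ℕ} [Fact p.Prime] {R X G : Subgroup Γ} [X.Normal]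
    (hX : X ≤ G) (h : Coprime.IsSylowIn p R X) : G ≤ nres X ⊔ G ⊓ normalizer (R : Set Γ) := by
  refine (h.frattini_argument hX le_normalizer_of_normal).ge.trans (sup_le ?_ le_sup_right)
  have h1 : X ≤ normalizer ((R ⊔ nres X : Subgroup Γ) : Set Γ) := by
    rw [← Core.comap_map_mk]
    refine le_trans ?_ (le_normalizer_comap _)
    rw [← map_le_iff_le_comap]
    refine le_normalizer.trans (normalizer_le_normalizer_of_isSylowIn (h.map _) ?_)
    rw [← nres_le_ker_iff, QuotientGroup.ker_mk']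
  have h2 : R ⊔ nres X ≤ X := sup_le h.1 (nres_le X)
  refine ((h.mono le_sup_left h2).frattini_argument h2 h1).ge.trans (sup_le (sup_le ?_ le_sup_left)
    ((inf_le_inf_right _ hX).trans le_sup_right))
  exact (le_inf (h.1.trans hX) le_normalizer).trans le_sup_right

theorem SubMin.lns_le_of_le_sup {m : ℕ} (h : SubMin G a m) {N H : Subgroup Γ} [N.Normal] (hH : H < G)
    (ha : a ∈ normalizer (H : Set Γ)) (hG : G ≤ N ⊔ H) : lns G m ≤ N := by
  have := lns_le_sup hG m
  rwa [h.2 H hH ha, sup_bot_eq] at this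

omit [Finite Γ] in
theorem commutator_le_of_le_sup_centralizer {L X S : Subgroup Γ} [L.Normal]
    (h : X ≤ S ⊔ centralizer (L : Set Γ)) : ⁅L, X⁆ ≤ ⁅L, S⁆ := by
  refine (commutator_mono le_rfl h).trans (Reg.commutator_sup_right_le
    (normalizer_commutator_ge_right _ _) ((centralizer_le (SetLike.coe_subset_coe.2
      (commutator_le_left _ _))).trans (centralizer_le_normalizer _)) le_rfl ?_)
  rw [Coprime.commutator_eq_bot_iff_le_centralizer'.2 le_rfl]
  exact bot_le

theorem SubMin.layer_succ (hc : Ctx r G a) (hr : r.Prime) {k : ℕ} (h : SubMin G a (k + 1)) :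
    ∃ s, s.Prime ∧ Layer s (lns G (k + 1)) ∧ ∀ t, t.Prime → t ≠ s → ∀ S ≤ lns G k,
      IsPGroup t S →
        S ≤ centralizer ((⁅lns G (k + 1), lns G (k + 1)⁆ : Subgroup Γ) : Set Γ) := by
  have := hc.normal
  set T := lns G k
  set L := lns G (k + 1)
  have hLG : L ≤ G := lns_le G _
  have hLs := Core.isSolvable_of_le hc.sol hLG
  have hLL : ⁅L, L⁆ < L := commutator_lt_of_isSolvable hLs h.1
  have hG : zpowers a ≤ normalizer (G : Set Γ) := le_normalizer_of_normal
  have key : ∀ X ≤ G, X.Normal → ∀ (p : ℕ) [Fact p.Prime], ∃ R, Coprime.IsSylowIn p R X ∧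
      (R.Normal ∨ ∃ H < G, a ∈ normalizer (H : Set Γ) ∧ G ≤ nres X ⊔ H) := by
    intro X hX _ p _
    obtain ⟨R, hR, haR⟩ := Coprime.exists_invariant_sylow p (A := zpowers a) (G := X)
      le_normalizer_of_normal (hc.coprime hr hX) (Or.inl inferInstance)
    refine ⟨R, hR, ?_⟩
    by_cases h1 : G ≤ normalizer (R : Set Γ)
    · exact Or.inl (hc.normal_of h1 (haR (mem_zpowers a)))
    · exact Or.inr ⟨_, inf_lt_left.2 h1, Core.le_normalizer_inf hG
        (Core.le_normalizer_normalizer haR) (mem_zpowers a), le_nres_sup_normalizer hX hR⟩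
  obtain ⟨H, hH, haH, hGH⟩ : ∃ H < G, a ∈ normalizer (H : Set Γ) ∧ G ≤ L ⊔ H := by
    by_contra h1
    refine h.1 (lns_succ_eq_bot_iff.2 (Core.isNilpotent_of_exists_sylow_normal fun p _ => ?_))
    obtain ⟨R, hR, h2⟩ := key T (lns_le G k) inferInstance p
    obtain ⟨S, hS, -⟩ := hR.exists_sylow
    have := h2.resolve_right h1
    exact ⟨S, hS ▸ inferInstance⟩
  obtain ⟨M, hHM, ⟨hM, haM⟩, hmax⟩ := Core.exists_maximal_ge
    (P := fun K => K < G ∧ a ∈ normalizer (K : Set Γ)) ⟨hH, haH⟩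
  have hGM : G ≤ L ⊔ M := hGH.trans (sup_le_sup_left hHM L)
  have hLM : ¬ L ≤ M := fun e => hM.not_ge (hGM.trans (sup_le e le_rfl))
  have hN : ∀ N ≤ G, N.Normal → N ≤ M ∨ L ≤ N := by
    intro N hNG _
    by_cases h1 : N ⊔ M = G
    · exact Or.inr (h.lns_le_of_le_sup hM haM h1.ge)
    · exact Or.inl (le_sup_left.trans (hmax _ ⟨lt_of_le_of_ne (sup_le hNG hM.le) h1,
        Core.le_normalizer_sup le_normalizer_of_normal (zpowers_le.2 haM) (mem_zpowers a)⟩
        le_sup_right).le)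
  obtain ⟨s, hs, hLp⟩ : ∃ s, s.Prime ∧ IsPGroup s L := by
    by_contra h1
    refine hLM (Coprime.le_of_forall_isSylowIn fun p hp _ => ?_)
    have := Fact.mk hp
    obtain ⟨R, hR, h2 | ⟨H, hH, haH, h2⟩⟩ := key L hLG inferInstance p
    · exact ⟨R, hR, (hN R (hR.1.trans hLG) h2).resolve_right fun e => h1 ⟨p, hp, hR.2.1.to_le e⟩⟩
    · exact (hLL.not_ge ((h.lns_le_of_le_sup hH haH h2).trans (nres_le_lcs L 1))).elim
  have := Fact.mk hs
  set T₁ := lns M k
  have hT₁ : nres T₁ = ⊥ := h.2 M hM haM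
  have hT : T ≤ L ⊔ T₁ := lns_le_sup hGM k
  have hMT : M ≤ normalizer (T₁ : Set Γ) := le_normalizer.trans (normalizer_le_normalizer_lns M k)
  have hcent : ∀ N ≤ L, N.Normal → N ≠ L → ∀ (t : ℕ) [Fact t.Prime], t ≠ s → ∀ R ≤ T₁,
      IsPGroup t R → ⁅N, R⁆ = ⊥ := fun N hNL _ hne t _ hts R hR hRt => by
    rw [eq_bot_iff, ← hT₁]
    exact commutator_le_nres hR le_normalizer_of_normal (((hN N (hNL.trans hLG)
      inferInstance).resolve_right fun e => hne (le_antisymm hNL e)).trans hMT)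
      (coprime_card_of_isPGroup hts hRt (hLp.to_le hNL)) (Core.isSolvable_of_le hLs hNL)
  obtain ⟨S₁, hS₁⟩ := Coprime.exists_isSylowIn s T₁
  have hsup : ∀ K : Subgroup Γ, (∀ (t : ℕ) [Fact t.Prime], t ≠ s → ∀ R, Coprime.IsSylowIn t R T₁ →
      R ≤ K) → T₁ ≤ S₁ ⊔ K := fun K hK => Coprime.le_of_forall_isSylowIn fun t ht _ => by
    have := Fact.mk ht
    by_cases hts : t = s
    · subst hts
      exact ⟨S₁, hS₁, le_sup_left⟩
    · obtain ⟨R, hR⟩ := Coprime.exists_isSylowIn t T₁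
      exact ⟨R, hR, (hK t hts R hR).trans le_sup_right⟩
  obtain ⟨t, _, hts, R, hR, hLR⟩ : ∃ (t : ℕ) (_ : Fact t.Prime), t ≠ s ∧ ∃ R,
      Coprime.IsSylowIn t R T₁ ∧ ¬ R ≤ centralizer (L : Set Γ) := by
    by_contra h1
    push Not at h1
    refine (PGrp.commutator_lt_of_le_normalizer (PGrp.isPGroup_sup_of_le_normalizer hS₁.2.1 hLp
      le_normalizer_of_normal) hLp le_normalizer_of_normal h.1).not_ge ?_
    refine (commutator_nres T).ge.trans
      (commutator_le_of_le_sup_centralizer (L := L) (hT.trans ?_))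
    exact sup_le (le_sup_right.trans le_sup_left) ((hsup _ fun t ht => h1 t ht).trans
      (sup_le_sup_right le_sup_left _))
  have hcop := coprime_card_of_isPGroup hts hR.2.1 hLp
  have hTR := normalizer_le_normalizer_of_isSylowIn hR (nres_eq_bot_iff.1 hT₁)
  have hLR' : ⁅L, R⁆ = L := by
    by_contra hne
    refine hLR (Coprime.commutator_eq_bot_iff_le_centralizer'.1
      (Coprime.commutator_eq_bot_of_commutator_commutator_eq_bot le_normalizer_of_normal hcop
        (hcent _ (commutator_le_left _ _) (hc.normal_of (hGM.trans (sup_le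
          (normalizer_commutator_ge_left _ _) (Core.le_normalizer_commutator
            le_normalizer_of_normal (hMT.trans hTR)))) ?_) hne t hts R hR.1 hR.2.1)))
    exact Core.le_normalizer_commutator le_normalizer_of_normal
      (((zpowers_le.2 haM).trans (normalizer_le_normalizer_lns M k)).trans hTR) (mem_zpowers a)
  have hle : ∀ N ≤ L, N.Normal → N ≠ L → N ≤ ⁅L, L⁆ := fun N hNL hn hne =>
    (le_inf hNL (commutator_eq_bot_iff_le_centralizer.1
      (hcent N hNL hn hne t hts R hR.1 hR.2.1))).trans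
      (Coprime.inf_centralizer_le_commutator le_normalizer_of_normal hcop hLR')
  have hD : ∀ (t : ℕ) [Fact t.Prime], t ≠ s → ∀ R, Coprime.IsSylowIn t R T₁ →
      R ≤ centralizer ((⁅L, L⁆ : Subgroup Γ) : Set Γ) := fun t _ hts R hR =>
    Coprime.commutator_eq_bot_iff_le_centralizer'.1
      (hcent _ hLL.le inferInstance hLL.ne t hts R hR.1 hR.2.1)
  have hcls : L ≤ centralizer ((⁅L, L⁆ : Subgroup Γ) : Set Γ) :=
    hLR'.ge.trans ((commutator_mono le_rfl (hD t hts R hR)).trans (commutator_le_right _ _))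
  refine ⟨s, hs, ⟨hLp, le_centralizer_iff.1 hcls, ?_, hLL, inferInstance, inferInstance,
    fun N hn h1 h2 => ?_⟩, fun t' ht' hts' S hS hSt => ?_⟩
  · by_cases h1 : L ⊓ centralizer (L : Set Γ) = L
    · exact Or.inl (commutator_eq_bot_iff_le_centralizer.2 (inf_eq_left.1 h1))
    · exact Or.inr (hle _ inf_le_left inferInstance h1)
  · by_cases h3 : N = L
    · exact Or.inr h3
    · exact Or.inl (le_antisymm (hle N h2 hn h3) h1)
  · have := Fact.mk ht'
    have h1 : S ≤ S₁ ⊔ centralizer ((⁅L, L⁆ : Subgroup Γ) : Set Γ) :=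
      hS.trans (hT.trans (sup_le (hcls.trans le_sup_right) (hsup _ hD)))
    rw [← Core.map_mk_le_map_mk_iff] at h1
    rw [← Core.map_mk_eq_bot_iff, ← inf_eq_left.2 h1]
    exact Core.inf_eq_bot_of_coprime_card
      (coprime_card_of_isPGroup hts' (hSt.map _) (hS₁.2.1.map _))

omit [Finite Γ] in
theorem SubMin.commutator_eq_bot (hc : Ctx r G a) (h : SubMin G a 0) : ⁅G, G⁆ = ⊥ :=
  have := hc.normal
  h.2 _ (commutator_lt_of_isSolvable hc.sol h.1) (le_normalizer_of_normal (mem_top a))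

theorem SubMin.layer (hc : Ctx r G a) (hr : r.Prime) {m : ℕ} (h : SubMin G a m) :
    ∃ s, s.Prime ∧ Layer s (lns G m) ∧ ∀ k, m = k + 1 → ∀ t, t.Prime → t ≠ s → ∀ S ≤ lns G k,
      IsPGroup t S → S ≤ centralizer ((⁅lns G m, lns G m⁆ : Subgroup Γ) : Set Γ) := by
  rcases m with _ | k
  · have := hc.normal
    have h1 := h.commutator_eq_bot hc
    have h2 : IsChiefFactor G ⊥ := ⟨bot_lt_iff_ne_bot.2 h.1, this, inferInstance,
      fun N _ _ h3 => h3.eq_or_lt.symm.imp_left fun h4 =>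
        h.2 N h4 (le_normalizer_of_normal (mem_top a))⟩
    obtain ⟨s, hs, h3⟩ := (Core.isChiefFactor_bot_iff.1 h2).exists_isPGroup hc.sol
    exact ⟨s, hs, ⟨h3, by rw [lns_zero, h1]; exact bot_le, Or.inl h1,
      by rw [lns_zero, h1]; exact h2⟩, fun k hk => by omega⟩
  · obtain ⟨s, hs, h1, h2⟩ := h.layer_succ hc hr
    refine ⟨s, hs, h1, fun j hj => ?_⟩
    obtain rfl : k = j := by omega
    exact h2

theorem Layer.pow_mem {s : ℕ} [Fact s.Prime] {L : Subgroup Γ} (h : Layer s L) {g : Γ}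
    (hg : g ∈ L) : g ^ s ∈ ⁅L, L⁆ := by
  have := h.chief.2.1
  have h1 := (Core.isMinNormal_map_of_isChiefFactor h.chief).isElementaryAbelian_of_isPGroup
    (h.pgrp.map _)
  exact (QuotientGroup.eq_one_iff _).1 (h1.2 _ (mem_map_of_mem _ hg))

section Next

variable [Finite Γ'] {s : ℕ} [hs : Fact s.Prime] {L : Subgroup Γ} (hL : Layer s L) {π : Γ →* Γ'}
  (hπ : Function.Surjective π) (hker : ∀ g, π g = 1 ↔ ∀ x ∈ L, ⁅x, g⁆ ∈ ⁅L, L⁆)

omit [Finite Γ] [Finite Γ'] hs in
include hker in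
theorem map_eq_bot_iff_of_ker {X : Subgroup Γ} : X.map π = ⊥ ↔ ⁅L, X⁆ ≤ ⁅L, L⁆ := by
  rw [Subgroup.map_eq_bot_iff, commutator_le]
  exact ⟨fun h x hx g hg => (hker g).1 (h hg) x hx, fun h g hg => (hker g).2 fun x hx => h x hx g hg⟩

omit [Finite Γ'] in
include hL hπ hker in
theorem Layer.eq_bot_of_isPGroup {X : Subgroup Γ'} [X.Normal] (hX : IsPGroup s X) : X = ⊥ := by
  have := hL.chief.2.1
  obtain ⟨R, -, hR, hRX⟩ := exists_isPGroup_map_eq (f := π) (K := ⊤) hX
    (by rw [map_top_of_surjective _ hπ]; exact le_top)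
  have hL0 : L ≠ ⊥ := hL.chief.1.ne_bot
  have h1 := PGrp.commutator_lt_of_le_normalizer (PGrp.isPGroup_sup_of_le_normalizer hR hL.pgrp
    le_normalizer_of_normal) hL.pgrp le_normalizer_of_normal hL0
  have h2 : ⁅L, L⁆ ≤ ⁅L, R ⊔ L⁆ := commutator_mono le_rfl le_sup_right
  have h3 : ⁅L, π.ker⁆ ≤ ⁅L, L⁆ := (map_eq_bot_iff_of_ker hker).1 (map_ker_self π)
  have h4 : ⁅L, X.comap π⁆ ≤ ⁅L, R ⊔ L⁆ := by
    rw [← hRX, comap_map_eq]
    exact Reg.commutator_sup_right_le (le_sup_left.trans (normalizer_commutator_ge_right _ _))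
      (Coprime.le_normalizer_of_commutator_le h1.le (h3.trans h2))
      (commutator_mono le_rfl le_sup_left) (h3.trans h2)
  rcases hL.chief.2.2.2 (⁅L, X.comap π⁆ ⊔ ⁅L, L⁆) inferInstance le_sup_right
    (sup_le (commutator_le_left _ _) (commutator_le_left _ _)) with h5 | h5
  · rw [← map_comap_eq_self_of_surjective hπ X, map_eq_bot_iff_of_ker hker]
    exact le_sup_left.trans h5.le
  · exact (h1.not_ge (h5.ge.trans (sup_le h4 h2))).elim

variable (hc : Ctx r G a) {k : ℕ} (hLG : L = lns G (k + 1))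

include hL hπ hker hc hLG in
theorem not_dvd_card_lns_map : ¬ s ∣ Nat.card (lns (G.map π) k) := by
  have := (hc.map hπ).normal
  obtain ⟨R, hR⟩ := Coprime.exists_isSylowIn s (lns (G.map π) k)
  have h1 : Group.IsNilpotent (lns (G.map π) k) := by
    rw [← lns_succ_eq_bot_iff, ← map_lns, ← hLG, map_eq_bot_iff_of_ker hker]
  have : R.Normal := Core.normal_iff_top_le_normalizer.2
    (le_normalizer_of_normal.trans (normalizer_le_normalizer_of_isSylowIn hR h1))
  have h2 := hR.2.2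
  rwa [hL.eq_bot_of_isPGroup hπ hker hR.2.1, relIndex_bot_left] at h2

include hL hπ hker hc hLG in
theorem lns_map_eq_bot {H : Subgroup Γ} (h1 : L ≤ H) (h2 : H ≤ G) (h3 : lns H (k + 1) = ⊥) :
    lns (H.map π) k = ⊥ := by
  have := hL.chief.2.1
  rw [← map_lns, Subgroup.map_eq_bot_iff]
  refine Coprime.le_of_forall_isSylowIn fun t ht _ => ?_
  have := Fact.mk ht
  obtain ⟨R, hR⟩ := Coprime.exists_isSylowIn t (lns H k)
  refine ⟨R, hR, (Subgroup.map_eq_bot_iff _).1 ?_⟩
  by_cases hts : t = s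
  · subst hts
    exact eq_bot_of_isPGroup_of_not_dvd (hR.2.1.map π)
      ((map_mono (hR.1.trans (lns_mono h2 k))).trans (map_lns G π k).le)
      (not_dvd_card_lns_map hL hπ hker hc hLG)
  · rw [map_eq_bot_iff_of_ker hker]
    refine (commutator_le_nres hR.1 le_normalizer_of_normal (h1.trans (le_normalizer.trans
      (normalizer_le_normalizer_lns H k))) (coprime_card_of_isPGroup hts hR.2.1 hL.pgrp)
      (Coprime.isSolvable_of_isPGroup hL.pgrp)).trans ?_
    rw [← lns_succ, h3]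
    exact bot_le

omit [Finite Γ'] hs in
include hL hker hLG in
theorem lns_map_ne_bot : lns (G.map π) k ≠ ⊥ := by
  rw [← map_lns, Ne, map_eq_bot_iff_of_ker hker]
  intro h
  refine hL.chief.1.not_ge (le_trans ?_ h)
  rw [hLG]
  exact (commutator_nres _).ge

include hL hπ hker hc hLG in
theorem SubMin.map (h : SubMin G a (k + 1)) : SubMin (G.map π) (π a) k := by
  have := hc.normal
  refine ⟨lns_map_ne_bot hL hker hLG, fun H hH ha => ?_⟩
  have e : (G ⊓ H.comap π).map π = H := by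
    refine le_antisymm (map_le_iff_le_comap.2 inf_le_right) fun x hx => ?_
    obtain ⟨g, hg, rfl⟩ := hH.le hx
    exact ⟨g, ⟨hg, hx⟩, rfl⟩
  rw [← e]
  refine lns_map_eq_bot hL hπ hker hc hLG (le_inf (hLG ▸ lns_le G _) ?_) inf_le_left
    (h.2 _ (inf_lt_left.2 fun h1 => hH.not_ge (map_le_iff_le_comap.2 h1)) ?_)
  · rw [← map_le_iff_le_comap, (map_eq_bot_iff_of_ker hker).2 le_rfl]
    exact bot_le
  · exact Core.le_normalizer_inf le_normalizer_of_normal
      (zpowers_le.2 (le_normalizer_comap π ha)) (mem_zpowers a)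

end Next

end Cfsg.Agent.Mod
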