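import Mathlib
import Cfsg.Agent.Lib.Mod.Faithful
import Cfsg.Agent.Lib.Mod.Extraspecial

/-! Robust fixed vectors of an element of prime order. -/

set_option autoImplicit false

namespace Cfsg.Agent.Mod

open Module Polynomial Subgroup
open scoped commutatorElement Pointwise

universe u

variable {k G V : Type*} [Field k] [Group G] [AddCommGroup V] [Module k V]
  {ρ : Representation k G V}

variable (ρ) in
/-- The vector `d` is robust for the `a`-invariant subgroup `B`. -/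
def Rob (a : G) (B : Subgroup G) (d : V) : Prop :=
  ∀ B' ≤ B, a ∈ normalizer (B' : Set G) → ∀ l : V →ₗ[k] k, (∀ b ∈ B', ∀ v, l (ρ b v) = l v) →
    (∀ b ∈ B, l (ρ b d) ≠ 0 →
      ∃ b' ∈ B', ∃ c ∈ B ⊓ centralizer (zpowers a : Set G), b = b' * c) → l d = 0

variable (ρ) in
/-- There is a robust vector of the form `y u - u` with `u` fixed by `a`. -/
def Out (a y : G) (Q : Subgroup G) : Prop :=
  ∃ u ∈ fix ρ (zpowers a), ρ y u ≠ u ∧
    ∃ B ≤ Q, a ∈ normalizer (B : Set G) ∧ Rob ρ a B (ρ y u - u)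

theorem Out.mono {a y : G} {Q R : Subgroup G} (h : Out ρ a y Q) (hQ : Q ≤ R) : Out ρ a y R := by
  obtain ⟨u, hu, h1, B, hB, h2⟩ := h
  exact ⟨u, hu, h1, B, hB.trans hQ, h2⟩

theorem card_mul_set_dvd [Finite G] (A C : Subgroup G) :
    Nat.card ((A : Set G) * (C : Set G) : Set G) ∣ Nat.card C * Nat.card A := by
  rw [card_mul_eq_card_subgroup_mul_card_quotient]
  refine Nat.mul_dvd_mul_left _ ?_
  have : ((A : Set G).image (↑) : Set (G ⧸ C)) = MulAction.orbit A ((1 : G) : G ⧸ C) := by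
    ext x
    constructor
    · rintro ⟨g, hg, rfl⟩
      exact ⟨⟨g, hg⟩, congrArg (fun x : G => (x : G ⧸ C)) (mul_one g)⟩
    · rintro ⟨g, rfl⟩
      exact ⟨g, g.2, congrArg (fun x : G => (x : G ⧸ C)) (mul_one (g : G)).symm⟩
  rw [this, Nat.card_coe_set_eq, ← MulAction.index_stabilizer]
  exact index_dvd_card _

theorem rob_of_cmt [Finite G] {a : G} {B : Subgroup G} (hB : (Nat.card B : k) ≠ 0) {d : V}
    (h1 : d ∈ cmt ρ B) (h2 : ∀ c ∈ B ⊓ centralizer (zpowers a : Set G), ρ c d = d) :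
    Rob ρ a B d := by
  classical
  intro B' hB' _ l hl hs
  by_contra h0
  set C := B ⊓ centralizer (zpowers a : Set G)
  have := Fintype.ofFinite B
  have h3 : nrm ρ B d = 0 := by
    rw [← ker_avg hB, LinearMap.mem_ker, avg, LinearMap.smul_apply, smul_eq_zero] at h1
    exact h1.resolve_left (inv_ne_zero hB)
  have h4 := congrArg l h3
  rw [nrm_apply, map_sum, map_zero, Finset.sum_congr rfl
    (g := fun b : B => if (b : G) ∈ ((B' : Set G) * (C : Set G) : Set G) then l d else 0),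
    ← Finset.sum_filter, Finset.sum_const, ← Nat.cast_smul_eq_nsmul k, smul_eq_zero] at h4
  · refine h4.elim (fun h5 => ?_) h0
    have e : (Finset.univ.filter fun b : B =>
        (b : G) ∈ ((B' : Set G) * (C : Set G) : Set G)).card =
        Nat.card ((B' : Set G) * (C : Set G) : Set G) := by
      rw [← Fintype.card_subtype, ← Nat.card_eq_fintype_card]
      refine Nat.card_congr ⟨fun x => ⟨x.1, x.2⟩, fun x => ⟨⟨x.1, ?_⟩, x.2⟩, fun _ => rfl,
        fun _ => rfl⟩
      obtain ⟨b, hb, c, hc, e⟩ := x.2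
      exact e ▸ B.mul_mem (hB' hb) hc.1
    obtain ⟨m, hm⟩ := card_mul_set_dvd B' C
    have := mul_ne_zero (card_ne_zero_of_le hB (inf_le_left : C ≤ B)) (card_ne_zero_of_le hB hB')
    rw [← Nat.cast_mul, hm, Nat.cast_mul, ← e, h5, zero_mul] at this
    exact this rfl
  · intro b _
    split_ifs with hb
    · obtain ⟨b', hb', c, hc, e⟩ := hb
      rw [← e, rho_mul_apply, hl b' hb', h2 c hc]
    · by_contra h5
      obtain ⟨b', hb', c, hc, e⟩ := hs b b.2 h5
      exact hb ⟨b', hb', c, hc, e.symm⟩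

/-- Transfer of robustness along a homomorphism. -/
theorem Rob.of_map {G' : Type*} [Group G'] {ρ' : Representation k G' V} {π : G →* G'}
    (hρ : ∀ g, ρ' (π g) = ρ g) {a : G} {B : Subgroup G} {d : V}
    (h : Rob ρ' (π a) (B.map π) d) : Rob ρ a B d := by
  intro B' hB' ha l hl hs
  refine h (B'.map π) (map_mono hB') (le_normalizer_map π (mem_map_of_mem π ha)) l ?_ ?_
  · rintro _ ⟨b, hb, rfl⟩ v
    rw [hρ, hl b hb]
  · rintro _ ⟨b, hb, rfl⟩ h0
    obtain ⟨b', hb', c, hc, rfl⟩ := hs b hb (by rwa [hρ] at h0)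
    refine ⟨_, mem_map_of_mem π hb', π c, ⟨mem_map_of_mem π hc.1, ?_⟩, map_mul π _ _⟩
    rw [← MonoidHom.map_zpowers]
    rintro _ ⟨x, hx, rfl⟩
    rw [← map_mul, ← map_mul, hc.2 x hx]

theorem IsFaithfulOn.out {G' : Type*} [Group G'] {c : Submodule k V} {L : Subgroup G}
    {π : L →* G'} {σ : Representation k G' c} (h : IsFaithfulOn ρ c π σ) {a y : G} (ha : a ∈ L)
    (hy : y ∈ L) {Q : Subgroup G} (hQ : Q ≤ L) (haQ : a ∈ normalizer (Q : Set G))
    (ho : Out σ (π ⟨a, ha⟩) (π ⟨y, hy⟩) (im π Q)) : Out ρ a y Q := by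
  obtain ⟨u, hu, h1, B, hB, h2, h3⟩ := ho
  have e : im π (Q ⊓ pre π B) = B := by
    refine le_antisymm ((le_pre π (inf_le_left.trans hQ)).1 inf_le_right) fun b hb => ?_
    obtain ⟨x, hx, rfl⟩ := hB hb
    exact mem_im π ⟨hx, (mem_pre π x.2).2 hb⟩
  refine ⟨u, ?_, fun e => h1 (Subtype.ext ((h.apply ⟨y, hy⟩ u).trans e)), Q ⊓ pre π B, inf_le_left,
    ?_, ?_⟩
  · rw [mem_fix_zpowers] at hu ⊢
    exact (h.apply ⟨a, ha⟩ u).symm.trans (congrArg Subtype.val hu)
  · refine Core.le_normalizer_inf (zpowers_le.2 haQ) ?_ (mem_zpowers a)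
    rw [zpowers_le, mem_normalizer_iff]
    intro g
    by_cases hg : g ∈ L
    · rw [mem_pre π hg, mem_pre π (L.mul_mem (L.mul_mem ha hg) (L.inv_mem ha)),
        mem_normalizer_iff.1 h2, ← map_inv, ← map_mul, ← map_mul]
      rfl
    · refine iff_of_false (fun h4 => hg (map_subtype_le _ h4)) fun h4 => hg ?_
      have := L.mul_mem (L.mul_mem (L.inv_mem ha) (map_subtype_le _ h4)) ha
      simpa [mul_assoc] using this
  · intro B' hB' ha' l hl hs
    have hB'L : B' ≤ L := hB'.trans (inf_le_left.trans hQ)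
    have := h3 (im π B') (e ▸ im_mono π hB') (mem_normalizer_im π ha') (l.comp c.subtype) ?_ ?_
    · simpa [h.apply] using this
    · rintro _ ⟨b, hb, rfl⟩ v
      simp [h.apply, hl b hb]
    · rw [← e]
      rintro _ ⟨b, hb, rfl⟩ h0
      obtain ⟨b', hb', c', hc', e'⟩ := hs b hb (by simpa [h.apply] using h0)
      have hc'L : c' ∈ L := hQ hc'.1.1
      refine ⟨π ⟨b', hB'L hb'⟩, mem_im π hb', π ⟨c', hc'L⟩, ⟨mem_im π hc'.1, ?_⟩, ?_⟩
      · rw [← im_zpowers π ha]
        exact mem_centralizer_im π hc'.2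
      · rw [← map_mul]
        exact congrArg π (Subtype.ext e')

section Moved

variable [FiniteDimensional k V] [Finite G]

omit [FiniteDimensional k V] in
theorem mem_stab_of_pow_mem {c : Submodule k V} {a : G} {r : ℕ} (hr : r.Prime)
    (ho : orderOf a = r) {h : G} (hh : h ∈ zpowers a) (h1 : h ≠ 1) (hc : h ∈ stab ρ c) :
    a ∈ stab ρ c := by
  have : zpowers h = zpowers a := by
    refine eq_of_le_of_card_ge (zpowers_le.2 hh) ?_
    rw [Nat.card_zpowers, Nat.card_zpowers, ho]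
    rcases (Nat.dvd_prime hr).1 (ho ▸ orderOf_dvd_of_mem_zpowers hh) with h2 | h2
    · exact absurd (orderOf_eq_one_iff.1 h2) h1
    · exact h2.ge
  exact zpowers_le.2 hc (this ▸ mem_zpowers a)

/-- An element centralizing `a` and acting non-trivially on a component moved by `a` acts
non-trivially on the norms. -/
theorem exists_nrm_ne_of_moved {Q : Subgroup G} (hQ : (Nat.card Q : k) ≠ 0) {c : Submodule k V}
    (hc : c ∈ comps ρ Q) {a y : G} {r : ℕ} (hr : r.Prime) (ho : orderOf a = r)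
    (ha : a ∈ normalizer (Q : Set G)) (hy : y ∈ normalizer (Q : Set G)) (hay : Commute a y)
    (hcop : r.Coprime (orderOf y)) (hac : a ∉ stab ρ c) {X : Submodule k V} (hX : X ≤ c)
    (hyX : y ∉ kerOn ρ X) :
    ∃ u ∈ X, ρ y (nrm ρ (zpowers a) u) ≠ nrm ρ (zpowers a) u := by
  classical
  by_contra hall
  push Not at hall
  obtain ⟨p, -, hp1, hp2⟩ := sSupIndep.exists_proj (sSupIndep_comps hQ) (R := {c})
    (Set.singleton_subset_iff.2 hc)
  have := Fintype.ofFinite (zpowers a)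
  have hA : zpowers a ≤ normalizer (Q : Set G) := zpowers_le.2 ha
  have h1 : ∀ v ∈ c, p (nrm ρ (zpowers a) v) = v := by
    intro v hv
    rw [nrm_apply, map_sum, Finset.sum_eq_single (1 : zpowers a)]
    · simpa using hp1 c rfl v hv
    · intro h _ h1
      refine hp2 _ (map_rho_mem_comps hc (hA h.2)) (fun e => hac ?_) _
        (Submodule.mem_map_of_mem hv)
      exact mem_stab_of_pow_mem hr ho h.2 (fun e => h1 (Subtype.ext e)) e
    · simp
  have hyn : ρ y * nrm ρ (zpowers a) = nrm ρ (zpowers a) * ρ y :=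
    rho_mul_nrm_comm (centralizer_le_normalizer _ (by
      rw [zpowers_eq_closure, centralizer_closure]
      exact mem_centralizer_singleton_iff.2 hay.symm.eq))
  refine hyX fun u hu => ?_
  have h2 : nrm ρ (zpowers a) (ρ y u) = nrm ρ (zpowers a) u :=
    (LinearMap.congr_fun hyn u).symm.trans (hall u hu)
  by_cases hyc : y ∈ stab ρ c
  · rw [← h1 _ (isInv_stab c y hyc u (hX hu)), h2, h1 u (hX hu)]
  · have h3 : p (nrm ρ (zpowers a) (ρ y u)) = 0 := by
      rw [nrm_apply, map_sum]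
      refine Finset.sum_eq_zero fun h _ => ?_
      rw [← rho_mul_apply]
      refine hp2 _ (map_rho_mem_comps hc (mul_mem (hA h.2) hy)) (fun e => hyc ?_) _
        (Submodule.mem_map_of_mem (hX hu))
      have hc' : Commute (h : G) y := by
        obtain ⟨_, i, rfl⟩ := h
        exact hay.zpow_left i
      exact zpowers_le.2 (show (h : G) * y ∈ stab ρ c from e) (mem_zpowers_mul_of_coprime hc'
        (hcop.coprime_dvd_left (ho ▸ orderOf_dvd_of_mem_zpowers h.2))).2
    rw [h2, h1 u (hX hu)] at h3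
    rw [h3, map_zero]

end Moved

section Pure

variable [IsAlgClosed k] [FiniteDimensional k V] [Finite G]

theorem exists_smul_of_support {Q : Subgroup G} (hQ : (Nat.card Q : k) ≠ 0) {U : Submodule k V}
    (hU : IsIrr ρ Q U) {B : Subgroup G} (hB : B ≤ Q) {l : V →ₗ[k] k}
    (hl : ∀ b ∈ B, ∀ v, l (ρ b v) = l v) {d : V} (hd : d ∈ U) (h0 : l d ≠ 0)
    (hs : ∀ g ∈ Q, l (ρ g d) ≠ 0 → ∃ b ∈ B, ∃ z ∈ Q ⊓ scal ρ U, g = b * z) {v : V}
    (hv : v ∈ U) (hvB : v ∈ fix ρ B) : ∃ t : k, v = t • d := by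
  classical
  have := Fintype.ofFinite Q
  have hn : B ≤ normalizer ((Q ⊓ scal ρ U : Subgroup G) : Set G) :=
    Core.le_normalizer_inf (hB.trans le_normalizer) (hB.trans (normalizer_scal hU.inv))
  set H := B ⊔ Q ⊓ scal ρ U
  have hHQ : H ≤ Q := sup_le hB inf_le_left
  have h1 : nrm (conjRep ρ) Q (l.smulRight v) ∈ endQ ρ Q := mem_fix_conjRep.1 (nrm_mem_fix Q _)
  obtain ⟨t, ht⟩ := hU.exists_smul (φ := nrm (conjRep ρ) Q (l.smulRight v))
    (fun g hg w _ => endQ_apply h1 hg w) (fun w _ => by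
      rw [nrm_conjRep_apply]
      exact U.sum_mem fun g _ => hU.inv g g.2 _ (U.smul_mem _ hv))
  have h2 := ht d hd
  rw [nrm_conjRep_apply, Finset.sum_congr rfl
    (g := fun g : Q => if g ∈ H.subgroupOf Q then l d • v else 0), ← Finset.sum_filter,
    Finset.sum_const, ← Nat.cast_smul_eq_nsmul k, smul_smul] at h2
  · have h3 := card_ne_zero_of_le hQ hHQ
    rw [← Core.card_subgroupOf_of_le hHQ, Nat.card_eq_fintype_card, Fintype.card_subtype] at h3
    exact ⟨_, by rw [← smul_smul, ← h2, smul_smul, inv_mul_cancel₀ (mul_ne_zero h3 h0), one_smul]⟩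
  · intro g _
    rw [LinearMap.smulRight_apply, map_smul]
    split_ifs with hg
    · obtain ⟨b, hb, z, ⟨-, s, hz⟩, e⟩ := (Core.mem_sup_of_le_normalizer hn).1 (H.inv_mem hg)
      have e' : (g : G) = z⁻¹ * b⁻¹ := by rw [← mul_inv_rev, e]; simp
      rw [show (g : G)⁻¹ = b * z from e.symm, rho_mul_apply, hl b hb, hz d hd, map_smul,
        smul_eq_mul, mul_comm, ← smul_smul, e', rho_mul_apply, hvB _ (B.inv_mem hb), ← map_smul,
        ← hz v hv, ← rho_mul_apply, inv_mul_cancel, map_one, Module.End.one_apply]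
    · have : l (ρ (g : G)⁻¹ d) = 0 := by
        by_contra h4
        obtain ⟨b, hb, z, hz, e⟩ := hs _ (Q.inv_mem g.2) h4
        exact hg (H.inv_mem_iff.1 (show (g : G)⁻¹ ∈ H from e ▸ mul_mem_sup hb hz))
      rw [this, zero_smul]

omit [IsAlgClosed k] [FiniteDimensional k V] [Finite G] in
theorem apply_avg {B : Subgroup G} [Finite B] (hB : (Nat.card B : k) ≠ 0) {l : V →ₗ[k] k}
    (hl : ∀ b ∈ B, ∀ v, l (ρ b v) = l v) (v : V) : l (avg ρ B v) = l v := by
  have := Fintype.ofFinite B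
  rw [avg, LinearMap.smul_apply, nrm_apply, map_smul, map_sum,
    Finset.sum_congr rfl fun (b : B) _ => hl b b.2 v, Finset.sum_const, Finset.card_univ,
    ← Nat.card_eq_fintype_card, ← Nat.cast_smul_eq_nsmul k, smul_smul, inv_mul_cancel₀ hB, one_smul]

omit [IsAlgClosed k] [FiniteDimensional k V] [Finite G] in
theorem inf_scal_le_kerOn {U W : Submodule k V} (hW : W ≤ U) (h0 : W ≠ ⊥) :
    kerOn ρ W ⊓ scal ρ U ≤ kerOn ρ U := by
  rintro g ⟨h1, t, ht⟩ w hw
  obtain ⟨v, hv, hv0⟩ := (Submodule.ne_bot_iff _).1 h0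
  have h2 : (t - 1) • v = 0 := by rw [sub_smul, ← ht v (hW hv), h1 v hv, one_smul, sub_self]
  rw [ht w hw, sub_eq_zero.1 ((smul_eq_zero.1 h2).resolve_right hv0), one_smul]

omit [IsAlgClosed k] [FiniteDimensional k V] [Finite G] in
theorem rho_mem_fix_zpowers {a y : G} (hay : Commute a y) {u : V} (hu : u ∈ fix ρ (zpowers a)) :
    ρ y u ∈ fix ρ (zpowers a) := by
  rw [mem_fix_zpowers] at hu ⊢
  rw [← rho_mul_apply, hay.eq, rho_mul_apply, hu]

omit [IsAlgClosed k] [FiniteDimensional k V] [Finite G] in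
theorem mem_normalizer_kerOn_span {d : V} {g : G} {s : k} (h : ρ g d = s • d) :
    g ∈ normalizer (kerOn ρ (Submodule.span k {d}) : Set G) := by
  refine normalizer_kerOn (isInv_scal (Submodule.span k {d})) ⟨s, fun w hw => ?_⟩
  obtain ⟨t, rfl⟩ := Submodule.mem_span_singleton.1 hw
  rw [map_smul, h, smul_comm]

/-- Either a robust vector or an invariant "isotropic" subgroup exists. -/
theorem out_or_exists {Q : Subgroup G} (hQ : (Nat.card Q : k) ≠ 0) {U : Submodule k V}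
    (hU : IsIrr ρ Q U) {a y : G} (ha : a ∈ normalizer (Q : Set G))
    (hy : y ∈ normalizer (Q : Set G)) (hyU : y ∈ stab ρ U) (hay : Commute a y)
    (hC : Q ⊓ centralizer (zpowers a : Set G) ≤ scal ρ U) (hns : ¬ Q ≤ scal ρ U) {u : V}
    (hu : u ∈ U) (hua : u ∈ fix ρ (zpowers a)) (hne : ρ y u ≠ u) :
    Out ρ a y Q ∨ ∃ B ≤ Q, a ∈ normalizer (B : Set G) ∧ y ∈ normalizer (B : Set G) ∧
      ¬ B ≤ kerOn ρ U ∧ B ⊓ scal ρ U ≤ kerOn ρ U := by
  set d := ρ y u - u with hd
  have hyU' := isInv_stab U y hyU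
  have hdU : d ∈ U := U.sub_mem (hyU' u hu) hu
  have hda : d ∈ fix ρ (zpowers a) := sub_mem (rho_mem_fix_zpowers hay hua) hua
  have hd0 : d ≠ 0 := sub_ne_zero.2 hne
  by_cases hr : Rob ρ a Q d
  · exact Or.inl ⟨u, hua, hne, Q, le_rfl, ha, hr⟩
  simp only [Rob, not_forall] at hr
  obtain ⟨B, hB, haB, l, hl, hs, h0⟩ := hr
  have hBk := card_ne_zero_of_le hQ hB
  have key : ∀ v ∈ U, l d • avg ρ B v = l v • d := by
    intro v hv
    obtain ⟨t, ht⟩ := exists_smul_of_support hQ hU hB hl hdU h0 (fun g hg h1 => by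
      obtain ⟨b, hb, c, hc, e⟩ := hs g hg h1
      exact ⟨b, hb, c, ⟨hc.1, hC hc⟩, e⟩) ((hU.inv.mono hB).avg_mem hv) (avg_mem_fix B v)
    rw [← apply_avg hBk hl v, ht, map_smul, smul_smul, smul_eq_mul, mul_comm]
  have hdB : d ∈ fix ρ B := by
    have := smul_right_injective V h0 (key d hdU)
    exact this ▸ avg_mem_fix B d
  have hsp : Submodule.span k {d} ≤ U := (Submodule.span_singleton_le_iff_mem _ _).2 hdU
  have hsp0 : Submodule.span k {d} ≠ ⊥ := mt Submodule.span_singleton_eq_bot.1 hd0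
  have hBd : B ≤ kerOn ρ (Submodule.span k {d}) :=
    le_kerOn_iff.2 ((Submodule.span_singleton_le_iff_mem _ _).2 hdB)
  by_cases h1 : ∃ u' ∈ U, u' ∈ fix ρ (zpowers a) ∧ ρ y u' ≠ u' ∧ l (ρ y u' - u') = 0
  · obtain ⟨u', hu', hu'a, h2, h3⟩ := h1
    have h4 : ρ y u' - u' ∈ U := U.sub_mem (hyU' _ hu') hu'
    refine Or.inl ⟨u', hu'a, h2, B, hB, haB, rob_of_cmt hBk ?_ fun c hc => ?_⟩
    · have := key _ h4
      rw [h3, zero_smul, smul_eq_zero] at this
      rw [← ker_avg hBk]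
      exact this.resolve_left h0
    · exact inf_scal_le_kerOn hsp hsp0 ⟨hBd hc.1, hC ⟨hB hc.1, hc.2⟩⟩ _ h4
  push Not at h1
  right
  have h2 : ρ y d = (l (ρ y d) / l d) • d := by
    set m := l (ρ y d) / l d
    by_contra h2
    refine h1 (ρ y u - m • u) (U.sub_mem (hyU' u hu) (U.smul_mem _ hu))
      (sub_mem (rho_mem_fix_zpowers hay hua) (Submodule.smul_mem _ _ hua)) (fun e => h2 ?_) ?_
    · rw [← sub_eq_zero] at e ⊢
      rw [← e, hd]
      simp only [map_sub, map_smul, smul_sub]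
      abel
    · have e : ρ y (ρ y u - m • u) - (ρ y u - m • u) = ρ y d - m • d := by
        rw [hd]
        simp only [map_sub, map_smul, smul_sub]
        abel
      rw [e, map_sub, map_smul, smul_eq_mul, div_mul_cancel₀ _ h0, sub_self]
  refine ⟨Q ⊓ kerOn ρ (Submodule.span k {d}), inf_le_left, ?_, ?_, fun h3 => hns fun g hg => ?_,
    le_trans (inf_le_inf_right _ inf_le_right) (inf_scal_le_kerOn hsp hsp0)⟩
  · exact Core.le_normalizer_inf (zpowers_le.2 ha) (zpowers_le.2 (mem_normalizer_kerOn_span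
      (s := 1) (by rw [one_smul]; exact mem_fix_zpowers.1 hda))) (mem_zpowers a)
  · exact Core.le_normalizer_inf (zpowers_le.2 hy) (zpowers_le.2 (mem_normalizer_kerOn_span
      h2)) (mem_zpowers y)
  · have h4 : ∀ v ∈ U, v = (l v / l d) • d := fun v hv => by
      have := key v hv
      rw [avg_apply_of_mem_fix hBk (le_kerOn_iff.1 ((le_inf hB hBd).trans h3) hv)] at this
      rw [div_eq_inv_mul, ← smul_smul, ← this, smul_smul, inv_mul_cancel₀ h0, one_smul]
    refine ⟨l (ρ g d) / l d, fun w hw => ?_⟩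
    rw [h4 w hw, map_smul, smul_comm, ← h4 _ (hU.inv g hg d hdU)]

omit [IsAlgClosed k] [FiniteDimensional k V] in
theorem le_kerOn_of_commutator {B : Subgroup G} (hsol : Group.IsSolvable B) {x : G}
    (hx : x ∈ normalizer (B : Set G)) (hcop : (orderOf x).Coprime (Nat.card B))
    {W : Submodule k V} (h1 : B ⊓ centralizer (zpowers x : Set G) ≤ kerOn ρ W)
    (h2 : ⁅B, zpowers x⁆ ≤ kerOn ρ W) : B ≤ kerOn ρ W :=
  (Coprime.centralizer_sup_commutator (zpowers_le.2 hx) (by rwa [Nat.card_zpowers])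
    (Or.inr hsol)).ge.trans (sup_le h1 h2)

/-- An invariant "isotropic" subgroup gives a robust vector. -/
theorem out_of_isotropic {B : Subgroup G} (hsol : Group.IsSolvable B)
    (hB : (Nat.card B : k) ≠ 0) {U : Submodule k V} (hU : IsInv ρ B U) {a y : G} {r : ℕ}
    (hr : r.Prime) (ho : orderOf a = r) (hrB : r.Coprime (Nat.card B))
    (ha : a ∈ normalizer (B : Set G)) (hy : y ∈ normalizer (B : Set G)) (haU : a ∈ stab ρ U)
    (hyU : y ∈ stab ρ U) (hay : Commute a y) (hry : r.Coprime (orderOf y))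
    (hC : B ⊓ centralizer (zpowers a : Set G) ≤ kerOn ρ U) (hc : ⁅B, B⁆ ≤ kerOn ρ U)
    (hne : ¬ B ≤ kerOn ρ U) (hy' : (∀ u ∈ U, ρ y u = u → u = 0) ∨
      ((orderOf y).Coprime (Nat.card B) ∧ B ⊓ centralizer (zpowers y : Set G) ≤ kerOn ρ U)) :
    Out ρ a y B := by
  have hX : IsInv ρ B (U ⊓ cmt ρ B) := hU.inf (isInv_cmt le_normalizer)
  have hX0 : U ⊓ cmt ρ B ≠ ⊥ := fun e => hne (by
    rw [le_kerOn_iff, ← hU.inf_fix_sup_inf_cmt hB, e, sup_bot_eq]
    exact inf_le_right)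
  obtain ⟨W, hWX, hW⟩ := hX.exists_isIrr_le hX0
  have hWU : W ≤ U := hWX.trans inf_le_left
  have hk : kerOn ρ U ≤ kerOn ρ W := fun g hg w hw => hg w (hWU hw)
  have hBW : ¬ B ≤ kerOn ρ W := fun h => hW.ne_bot (by
    rw [eq_bot_iff, ← (isCompl_fix_cmt (ρ := ρ) hB).inf_eq_bot]
    exact le_inf (le_kerOn_iff.1 h) (hWX.trans inf_le_right))
  have hst := isInv_iff_le_stab.1 hW.inv
  obtain ⟨u, hu, h1⟩ := exists_nrm_ne_of_moved hB hW.hcomp_mem_comps hr ho ha hy hay hry
    (fun h => hBW (le_kerOn_of_commutator hsol ha (ho ▸ hrB) (hC.trans hk) (commutator_le.2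
      fun b hb x hx w hw => commutator_mem_kerOn_of_mem_scal ((mem_scal_hcomp hb).2
        (hW.mem_scal (hst hb) fun b' hb' => hk (hc (commutator_mem_commutator hb' hb))))
        (zpowers_le.2 h hx) w (le_hcomp hw)))) (X := W) le_hcomp (fun h => by
      rcases hy' with h' | ⟨h1, h2⟩
      · exact hW.ne_bot (eq_bot_iff.2 fun w hw => h' w (hWU hw) (h w hw))
      · refine hBW (le_kerOn_of_commutator hsol hy h1 (h2.trans hk) ?_)
        rw [commutator_comm]
        exact (commutator_mono (zpowers_le.2 h) le_rfl).trans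
          (Coprime.commutator_le_of_le_normalizer (normalizer_kerOn hW.inv)))
  have hinv : ∀ x ∈ normalizer (B : Set G), x ∈ stab ρ U → IsInv ρ (zpowers x) (U ⊓ cmt ρ B) :=
    fun x h1 h2 => ((isInv_stab U).mono (zpowers_le.2 h2)).inf (isInv_cmt (zpowers_le.2 h1))
  have h2 : nrm ρ (zpowers a) u ∈ U ⊓ cmt ρ B := (hinv a ha haU).nrm_mem (hWX hu)
  have h3 := sub_mem (hinv y hy hyU y (mem_zpowers y) _ h2) h2
  exact ⟨_, nrm_mem_fix _ u, h1, B, le_rfl, ha, rob_of_cmt hB h3.2 fun c hc => hC hc _ h3.1⟩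

/-- A robust vector in an irreducible module of a group of class two. -/
theorem out_of_isIrr {Q : Subgroup G} (hsol : Group.IsSolvable Q) (hQ : (Nat.card Q : k) ≠ 0)
    {U : Submodule k V} (hU : IsIrr ρ Q U) (hc : ⁅Q, Q⁆ ≤ scal ρ U) {a y : G} {r : ℕ}
    (hr : r.Prime) (ho : orderOf a = r) (hrQ : r.Coprime (Nat.card Q))
    (ha : a ∈ normalizer (Q : Set G)) (hy : y ∈ normalizer (Q : Set G)) (haU : a ∈ stab ρ U)
    (hyU : y ∈ stab ρ U) (hay : Commute a y) (hry : r.Coprime (orderOf y))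
    (hC : Q ⊓ centralizer (zpowers a : Set G) ≤ scal ρ U) (hns : ¬ Q ≤ scal ρ U)
    (hy' : (∀ u ∈ U, ρ y u = u → u = 0) ∨
      ((orderOf y).Coprime (Nat.card Q) ∧ Q ⊓ centralizer (zpowers y : Set G) ≤ scal ρ U))
    {u : V} (hu : u ∈ U) (hua : u ∈ fix ρ (zpowers a)) (hne : ρ y u ≠ u) : Out ρ a y Q := by
  refine (out_or_exists hQ hU ha hy hyU hay hC hns hu hua hne).elim id ?_
  rintro ⟨B, hB, haB, hyB, h1, h2⟩
  refine (out_of_isotropic (Core.isSolvable_of_le hsol hB) (card_ne_zero_of_le hQ hB)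
    (hU.inv.mono hB) hr ho (hrQ.coprime_dvd_right (card_dvd_of_le hB)) haB hyB haU hyU hay hry
    ((le_inf inf_le_left ((inf_le_inf_right _ hB).trans hC)).trans h2)
    ((le_inf (commutator_le_self B) ((commutator_mono hB hB).trans hc)).trans h2) h1
    (hy'.imp_right fun h => ⟨h.1.coprime_dvd_right (card_dvd_of_le hB),
      (le_inf inf_le_left ((inf_le_inf_right _ hB).trans h.2)).trans h2⟩)).mono hB

end Pure

end Cfsg.Agent.Mod
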