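import Mathlib
import Cfsg.Agent.Lib.Mod.TurullRob
import Cfsg.Agent.Lib.Coprime.AxB

/-! Components of a group of class two that are moved by an element of prime order. -/

set_option autoImplicit false

namespace Cfsg.Agent.Mod

open Module Polynomial Subgroup
open scoped commutatorElement

universe u

variable {k G V : Type*} [Field k] [Group G] [AddCommGroup V] [Module k V]
  {ρ : Representation k G V}

theorem mem_scal_map {U : Submodule k V} {g x : G} (h : x⁻¹ * g * x ∈ scal ρ U) :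
    g ∈ scal ρ (U.map (ρ x)) := by
  obtain ⟨t, ht⟩ := h
  refine ⟨t, ?_⟩
  rintro _ ⟨w, hw, rfl⟩
  rw [← map_smul, ← ht w hw, ← rho_mul_apply, ← rho_mul_apply]
  congr 2
  group

theorem mem_kerOn_map {U : Submodule k V} {g x : G} :
    g ∈ kerOn ρ (U.map (ρ x)) ↔ x⁻¹ * g * x ∈ kerOn ρ U := by
  constructor
  · intro h w hw
    rw [rho_mul_apply, rho_mul_apply, h _ (Submodule.mem_map_of_mem hw)]
    simp
  · rintro h _ ⟨w, hw, rfl⟩
    conv_rhs => rw [← h w hw]
    rw [← rho_mul_apply, ← rho_mul_apply]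
    congr 2
    group

theorem mem_scal_map_iff {U : Submodule k V} {g x : G} :
    g ∈ scal ρ (U.map (ρ x)) ↔ x⁻¹ * g * x ∈ scal ρ U := by
  refine ⟨fun h => ?_, mem_scal_map⟩
  rw [← map_rho_inv_map (ρ := ρ) U x]
  exact mem_scal_map (by simpa [mul_assoc] using h)

theorem le_cmt_of_mem_scal {B : Subgroup G} {U : Submodule k V} {b : G} (hb : b ∈ B)
    (h1 : b ∈ scal ρ U) (h2 : b ∉ kerOn ρ U) : U ≤ cmt ρ B := by
  obtain ⟨t, ht⟩ := h1
  have h3 : t - 1 ≠ 0 := fun e => h2 fun w hw => by rw [ht w hw, sub_eq_zero.1 e, one_smul]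
  intro w hw
  have : w = (t - 1)⁻¹ • (ρ b w - w) := by
    rw [ht w hw, show t • w - w = (t - 1) • w by rw [sub_smul, one_smul], smul_smul,
      inv_mul_cancel₀ h3, one_smul]
  rw [this]
  exact Submodule.smul_mem _ _ (sub_mem_cmt hb w)

variable [IsAlgClosed k] [FiniteDimensional k V] [Finite G] {P : Subgroup G}

theorem mem_scal_comp_iff (hP : (Nat.card P : k) ≠ 0) {c : Submodule k V} (hc : c ∈ comps ρ P)
    {g : G} (hg : g ∈ P) : g ∈ scal ρ c ↔ ∀ a ∈ P, ⁅a, g⁆ ∈ kerOn ρ c := by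
  constructor
  · intro h a ha
    rw [← commutatorElement_inv]
    exact inv_mem (commutator_mem_kerOn_of_mem_scal h
      (isInv_iff_le_stab.1 (isInv_of_mem_comps hc) ha))
  · intro h
    obtain ⟨U, hU, rfl⟩ := hc
    exact exists_smul_on_comp hP hU.hcomp_mem_comps hU le_hcomp hg fun a ha w hw =>
      h a ha w (le_hcomp hw)

theorem le_normalizer_inf_scal (hP : (Nat.card P : k) ≠ 0) {c : Submodule k V}
    (hc : c ∈ comps ρ P) {H : Subgroup G} (h1 : H ≤ normalizer (P : Set G))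
    (h2 : H ≤ normalizer ((⁅P, P⁆ ⊓ kerOn ρ c : Subgroup G) : Set G)) :
    H ≤ normalizer ((P ⊓ scal ρ c : Subgroup G) : Set G) := by
  rw [le_normalizer_iff]
  intro x hx g hg
  have h3 := Coprime.conj_mem_of_le_normalizer h1 hx hg.1
  refine ⟨h3, (mem_scal_comp_iff hP hc h3).2 fun a ha => ?_⟩
  have h4 := Coprime.conj_mem_of_le_normalizer' h1 hx ha
  have e : ⁅a, x * g * x⁻¹⁆ = x * ⁅x⁻¹ * a * x, g⁆ * x⁻¹ := by
    simp only [commutatorElement_def]; group
  rw [e]
  exact (Coprime.conj_mem_of_le_normalizer h2 hx ⟨commutator_mem_commutator h4 hg.1,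
    (mem_scal_comp_iff hP hc hg.1).1 hg.2 _ h4⟩).2

theorem commutator_le_scal_comp (h2 : ⁅P, P⁆ ≤ centralizer (P : Set G)) {c : Submodule k V}
    (hc : c ∈ comps ρ P) : ⁅P, P⁆ ≤ scal ρ c :=
  le_scal_of_mem_comps (commutator_le_self P) h2 hc

/-- An element preserving the central character of a component stabilizes it. -/
theorem mem_stab_of_commutator_le (hP : (Nat.card P : k) ≠ 0)
    (h2 : ⁅P, P⁆ ≤ centralizer (P : Set G)) {c : Submodule k V} (hc : c ∈ comps ρ P) {x : G}
    (hx : x ∈ normalizer (P : Set G)) (h : ⁅P ⊓ scal ρ c, zpowers x⁆ ≤ kerOn ρ c) :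
    x ∈ stab ρ c := by
  have h3 := commutator_le_scal_comp h2 hc
  obtain ⟨U, hU, rfl⟩ := hc
  rw [mem_stab, hcomp_map_rho hx]
  refine ((hU.map_rho hx).hcomp_eq_of_scal hP hU (h3.trans (scal_anti le_hcomp)) ?_).symm
  rintro g hg t ht _ ⟨w, hw, rfl⟩
  have h4 : ⁅g⁻¹, x⁻¹⁆ ∈ kerOn ρ (hcomp ρ P U) := h (commutator_mem_commutator
    (inv_mem ⟨hg, (mem_scal_hcomp hg).2 ⟨t, ht⟩⟩) (inv_mem (mem_zpowers x)))
  have e : g * x = x * (g * ⁅g⁻¹, x⁻¹⁆) := by simp only [commutatorElement_def]; group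
  rw [← rho_mul_apply, e, rho_mul_apply, rho_mul_apply, h4 w (le_hcomp hw), ht w hw, map_smul]

/-- A component moved by `a` gives a robust vector. -/
theorem out_of_moved (hP : (Nat.card P : k) ≠ 0) (h2 : ⁅P, P⁆ ≤ centralizer (P : Set G))
    {c : Submodule k V} (hc : c ∈ comps ρ P) {a y : G} {r : ℕ} (hr : r.Prime)
    (ho : orderOf a = r) (hrP : r.Coprime (Nat.card P)) (ha : a ∈ normalizer (P : Set G))
    (hy : y ∈ normalizer (P : Set G)) (hay : Commute a y) (hry : r.Coprime (orderOf y))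
    (hyP : y ∈ centralizer ((⁅P, P⁆ : Subgroup G) : Set G)) (hac : a ∉ stab ρ c)
    (hyc : y ∉ kerOn ρ c) : Out ρ a y P := by
  set H := zpowers a ⊔ zpowers y
  have haH : zpowers a ≤ H := le_sup_left
  have hHP : H ≤ normalizer (P : Set G) := sup_le (zpowers_le.2 ha) (zpowers_le.2 hy)
  have hHa : H ≤ normalizer (zpowers a : Set G) := sup_le le_normalizer
    (zpowers_le.2 (centralizer_le_normalizer _ (by
      rw [zpowers_eq_closure, centralizer_closure]
      exact mem_centralizer_singleton_iff.2 hay.symm.eq)))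
  set Ω := ⨆ h : H, c.map (ρ h)
  set Z := P ⊓ ⨅ h : H, scal ρ (c.map (ρ h))
  have hcm : ∀ h : H, c.map (ρ h) ∈ comps ρ P := fun h => map_rho_mem_comps hc (hHP h.2)
  have hΩ : IsInv ρ H Ω := isInv_iff_map_le.2 fun x hx => by
    rw [Submodule.map_iSup]
    exact iSup_le fun h => by
      rw [← map_rho_mul]; exact le_iSup (fun h : H => c.map (ρ h)) (⟨x, hx⟩ * h)
  have hcΩ : c ≤ Ω := by
    have := le_iSup (fun h : H => c.map (ρ h)) 1
    rwa [OneMemClass.coe_one, map_rho_one] at this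
  have hHZ : H ≤ normalizer (Z : Set G) := by
    rw [le_normalizer_iff]
    intro x hx g hg
    refine ⟨Coprime.conj_mem_of_le_normalizer hHP hx hg.1, mem_iInf.2 fun h => mem_scal_map ?_⟩
    have := mem_scal_map_iff.1 (mem_iInf.1 hg.2 ((⟨x, hx⟩ : H)⁻¹ * h))
    simpa [mul_assoc] using this
  set B := ⁅Z, zpowers a⁆
  have hHB : H ≤ normalizer (B : Set G) := Core.le_normalizer_commutator hHZ hHa
  have hBZ : B ≤ Z := Coprime.commutator_le_of_le_normalizer (haH.trans hHZ)
  have hBk := card_ne_zero_of_le hP (hBZ.trans inf_le_left)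
  have hB : ¬ B ≤ kerOn ρ c := fun h => hac (by
    have h3 : ⁅P, P⁆ ≤ Z :=
      le_inf (commutator_le_self P) (le_iInf fun h => commutator_le_scal_comp h2 (hcm h))
    have h4 : H ≤ normalizer ((⁅P, P⁆ ⊓ kerOn ρ c : Subgroup G) : Set G) := by
      refine sup_le (Coprime.le_normalizer_of_commutator_le le_rfl (le_inf ?_ ?_)) ?_
      · exact (commutator_mono inf_le_left le_rfl).trans (Coprime.commutator_le_of_le_normalizer
          (Core.le_normalizer_commutator (haH.trans hHP) (haH.trans hHP)))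
      · exact (commutator_mono (inf_le_left.trans h3) le_rfl).trans h
      · exact (zpowers_le.2 hyP).trans ((centralizer_le (SetLike.coe_subset_coe.2
          inf_le_left)).trans (centralizer_le_normalizer _))
    have h5 := le_normalizer_inf_scal hP hc hHP h4
    refine mem_stab_of_commutator_le hP h2 hc ha ((commutator_mono ?_ le_rfl).trans h)
    exact le_inf inf_le_left (le_iInf fun h g hg =>
      mem_scal_map (Coprime.conj_mem_of_le_normalizer' h5 h.2 hg).2))
  have h6 : Ω ≤ cmt ρ B := iSup_le fun h => by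
    obtain ⟨b, hb, hb'⟩ := SetLike.not_le_iff_exists.1 hB
    have h7 := Coprime.conj_mem_of_le_normalizer hHB h.2 hb
    refine le_cmt_of_mem_scal h7 (mem_iInf.1 (hBZ h7).2 h) fun e => hb' ?_
    simpa [mul_assoc] using mem_kerOn_map.1 e
  have h7 : B ⊓ centralizer (zpowers a : Set G) ≤ kerOn ρ Ω := by
    have := Coprime.centralizer_inf_commutator_sup_le (A := zpowers a) (V := Z)
      (N := Z ⊓ kerOn ρ Ω) (haH.trans hHZ)
      (Core.le_normalizer_inf (haH.trans hHZ) (haH.trans (normalizer_kerOn hΩ))) inf_le_left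
      (le_inf (commutator_le_self Z) (le_kerOn_iff.2 (iSup_le fun h => le_kerOn_iff.1
        (commutator_le.2 fun g hg g' hg' => commutator_mem_kerOn_of_mem_scal (mem_iInf.1 hg.2 h)
          (isInv_iff_le_stab.1 (isInv_of_mem_comps (hcm h)) hg'.1)))))
      (by
        rw [Nat.card_zpowers, ho]
        exact hrP.coprime_dvd_right ((relIndex_dvd_card _ _).trans (card_dvd_of_le inf_le_left)))
    exact le_trans (le_inf (inf_le_inf_right _ hBZ) (inf_le_left.trans le_sup_left))
      (this.trans inf_le_right)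
  obtain ⟨u, hu, h8⟩ := exists_nrm_ne_of_moved hP hc hr ho ha hy hay hry hac le_rfl hyc
  have h9 : nrm ρ (zpowers a) u ∈ Ω := (hΩ.mono haH).nrm_mem (hcΩ hu)
  have h10 := sub_mem (hΩ y (mem_sup_right (mem_zpowers y)) _ h9) h9
  exact ⟨_, nrm_mem_fix _ u, h8, B, hBZ.trans inf_le_left, hHB (haH (mem_zpowers a)),
    rob_of_cmt hBk (h6 h10) fun x hx => h7 hx _ h10⟩

end Cfsg.Agent.Mod
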