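import Mathlib
import Cfsg.Agent.Lib.Mod.TurullComp

/-! Components of a group of class two that are fixed by an element of prime order. -/

set_option autoImplicit false

namespace Cfsg.Agent.Mod

open Module Polynomial Subgroup
open scoped commutatorElement

universe u

section RelC

variable {G : Type*} [Group G]

/-- Elements normalizing `Z` and centralizing `P` modulo `Z`. -/
def relC (P Z : Subgroup G) : Subgroup G where
  carrier := {g | g ∈ normalizer (Z : Set G) ∧ ∀ b ∈ P, ⁅b, g⁆ ∈ Z}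
  one_mem' := ⟨one_mem _, fun b _ => by simp⟩
  mul_mem' := fun {x y} hx hy => ⟨mul_mem hx.1 hy.1, fun b hb => by
    have : ⁅b, x * y⁆ = ⁅b, x⁆ * (x * ⁅b, y⁆ * x⁻¹) := by simp [commutatorElement_def, mul_assoc]
    rw [this]
    exact mul_mem (hx.2 b hb) ((mem_normalizer_iff.1 hx.1 _).1 (hy.2 b hb))⟩
  inv_mem' := fun {x} hx => ⟨inv_mem hx.1, fun b hb => by
    have : ⁅b, x⁻¹⁆ = x⁻¹ * ⁅b, x⁆⁻¹ * x⁻¹⁻¹ := by simp [commutatorElement_def, mul_assoc]
    rw [this]
    exact (mem_normalizer_iff.1 (inv_mem hx.1) _).1 (inv_mem (hx.2 b hb))⟩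

theorem mem_relC {P Z : Subgroup G} {g : G} :
    g ∈ relC P Z ↔ g ∈ normalizer (Z : Set G) ∧ ∀ b ∈ P, ⁅b, g⁆ ∈ Z := Iff.rfl

theorem le_relC {P Z A : Subgroup G} :
    A ≤ relC P Z ↔ A ≤ normalizer (Z : Set G) ∧ ⁅P, A⁆ ≤ Z :=
  ⟨fun h => ⟨fun _ ha => (h ha).1, commutator_le.2 fun b hb _ ha => (h ha).2 b hb⟩,
    fun h _ ha => ⟨h.1 ha, fun _ hb => h.2 (commutator_mem_commutator hb ha)⟩⟩

theorem le_normalizer_relC {M P Z : Subgroup G} (hP : M ≤ normalizer (P : Set G))
    (hZ : M ≤ normalizer (Z : Set G)) : M ≤ normalizer (relC P Z : Set G) := by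
  rw [le_normalizer_iff]
  intro m hm g hg
  refine ⟨mul_mem (mul_mem (hZ hm) hg.1) (inv_mem (hZ hm)), fun v hv => ?_⟩
  have := Coprime.conj_mem_of_le_normalizer hZ hm
    (hg.2 _ (Coprime.conj_mem_of_le_normalizer' hP hm hv))
  convert this using 1
  simp [commutatorElement_def, mul_assoc]

/-- If `A` centralizes `P` modulo `Z`, so does `⁅B, A⁆`. -/
theorem commutator_le_relC {P Z A B : Subgroup G} (hP : B ≤ normalizer (P : Set G))
    (hZ : B ≤ normalizer (Z : Set G)) (h : A ≤ relC P Z) : ⁅B, A⁆ ≤ relC P Z := by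
  rw [commutator_comm]
  exact (commutator_mono h le_rfl).trans
    (Coprime.commutator_le_of_le_normalizer (le_normalizer_relC hP hZ))

theorem zpowers_eq_of_prime [Finite G] {a h : G} {r : ℕ} (hr : r.Prime) (ho : orderOf a = r)
    (hh : h ∈ zpowers a) (h1 : h ≠ 1) : zpowers h = zpowers a := by
  refine eq_of_le_of_card_ge (zpowers_le.2 hh) ?_
  rw [Nat.card_zpowers, Nat.card_zpowers, ho]
  rcases (Nat.dvd_prime hr).1 (ho ▸ orderOf_dvd_of_mem_zpowers hh) with h2 | h2
  · exact absurd (orderOf_eq_one_iff.1 h2) h1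
  · exact h2.ge

theorem mem_centralizer_zpowers {a y : G} : y ∈ centralizer (zpowers a : Set G) ↔ Commute a y := by
  rw [zpowers_eq_closure, centralizer_closure, mem_centralizer_singleton_iff]
  exact eq_comm

end RelC

variable {k G V : Type*} [Field k] [Group G] [AddCommGroup V] [Module k V]
  {ρ : Representation k G V}

theorem mem_scal_of_commutator_mem [Finite G] {Q : Subgroup G} {U : Submodule k V}
    (hU : IsInv ρ Q U) {x : G} (hx : x ∈ normalizer (Q : Set G)) (hxU : x ∈ stab ρ U)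
    (hcop : (orderOf x).Coprime (Nat.card Q))
    (hC : Q ⊓ centralizer (zpowers x : Set G) ≤ scal ρ U) {z g : G} (hz : z ∈ stab ρ U)
    (hxz : x ∈ zpowers z) (hg : g ∈ Q) (h : ⁅g, z⁆ ∈ scal ρ U) : g ∈ scal ρ U := by
  have h1 : ⁅g, x⁆ ∈ scal ρ U :=
    Reg.commutator_mem_of_closure_right (T := {z})
      (fun t ht => ht ▸ normalizer_scal (isInv_stab U) hz) (fun t ht => ht ▸ h)
      (zpowers_eq_closure z ▸ hxz)
  obtain ⟨b, hb, hab⟩ := exists_mul_commute_of_commutator_mem (N := Q ⊓ scal ρ U)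
    (Core.le_normalizer_inf le_normalizer (normalizer_scal hU) hg)
    (Core.le_normalizer_inf (zpowers_le.2 hx)
      (zpowers_le.2 (normalizer_scal (isInv_stab U) hxU)) (mem_zpowers x))
    (hcop.coprime_dvd_right (card_dvd_of_le inf_le_left))
    ⟨Coprime.commutator_le_of_le_normalizer le_rfl (commutator_mem_commutator hg hx), h1⟩
  exact ((scal ρ U).mul_mem_cancel_right hb.2).1 (hC ⟨Q.mul_mem hg hb.1, hab⟩)

theorem IsFaithfulOn.isIrr {G' : Type*} [Group G'] {c : Submodule k V} {L : Subgroup G}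
    {π : L →* G'} {σ : Representation k G' c} (h : IsFaithfulOn ρ c π σ) {Q : Subgroup G}
    (hQ : Q ≤ L) (hc : IsIrr ρ Q c) : IsIrr σ (im π Q) ⊤ := by
  refine ⟨isInv_top _, ?_, fun U _ hU => ?_⟩
  · have := Submodule.nontrivial_iff_ne_bot.2 hc.ne_bot
    exact top_ne_bot
  · rcases hc.eq_bot_or_eq (U.map c.subtype) (Submodule.map_subtype_le c U) (by
      rintro g hg _ ⟨u, hu, rfl⟩
      exact ⟨_, hU _ (mem_im π (x := ⟨g, hQ hg⟩) hg) u hu, h.apply _ _⟩) with h1 | h1
    · exact Or.inl (Submodule.map_injective_of_injective c.subtype_injective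
        (h1.trans (Submodule.map_bot _).symm))
    · refine Or.inr (Submodule.map_injective_of_injective c.subtype_injective ?_)
      rw [h1, Submodule.map_subtype_top]

theorem IsFaithfulOn.aeval {G' : Type*} [Group G'] {c : Submodule k V} {L : Subgroup G}
    {π : L →* G'} {σ : Representation k G' c} (h : IsFaithfulOn ρ c π σ) (g : L) (f : k[X])
    (w : c) : (aeval (σ (π g)) f w : V) = aeval (ρ g) f w := by
  simp only [aeval_eq_sum_range, LinearMap.sum_apply, LinearMap.smul_apply, ← map_pow,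
    Submodule.coe_sum, Submodule.coe_smul, h.apply, SubgroupClass.coe_pow]

variable [IsAlgClosed k] [FiniteDimensional k V]

/-- The critical case modulo the kernel. -/
theorem critical_mod {G : Type u} [Group G] [Finite G] {ρ : Representation k G V}
    {Q : Subgroup G} (hsol : Group.IsSolvable Q) (hQ : (Nat.card Q : k) ≠ 0)
    {U : Submodule k V} (hirr : IsIrr ρ Q U) (hns : ¬ Q ≤ scal ρ U) {x : G}
    (hx : x ∈ normalizer (Q : Set G)) (hxU : x ∈ stab ρ U) {n : ℕ} (hn : x ^ n ∈ kerOn ρ U)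
    (hf : ∀ j, ¬ n ∣ j → ∀ g ∈ Q, ⁅g, x ^ j⁆ ∈ scal ρ U → g ∈ scal ρ U)
    {f : k[X]} (hf0 : f ≠ 0) (hfx : ∀ w ∈ U, aeval (ρ x) f w = 0) (hdeg : f.natDegree < n) :
    finrank k U + 1 = n ∧ f.natDegree + 1 = n := by
  have hle := isInv_iff_le_stab.1 hirr.inv
  obtain ⟨G', _, _, π, σ, h⟩ := exists_isFaithfulOn (isInv_stab (ρ := ρ) U)
  have ho : orderOf (π ⟨x, hxU⟩) = n := by
    refine Nat.dvd_antisymm (orderOf_dvd_of_pow_eq_one ?_) ?_
    · rw [← map_pow, h.eq_one_iff]; exact hn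
    · by_contra h1
      refine hns fun g hg => hf _ h1 g hg (kerOn_le_scal _ ?_)
      have h2 := pow_orderOf_eq_one (π ⟨x, hxU⟩)
      rw [← map_pow, h.eq_one_iff] at h2
      rw [← commutatorElement_inv]
      exact inv_mem (commutator_mem_kerOn_of_mem_scal (kerOn_le_scal _ h2) (hle hg))
  refine (ho ▸ critical (Core.isSolvable_map (Core.isSolvable_subgroupOf hsol _) π)
    (fun e => hQ ?_) (h.isIrr hle hirr) (mem_normalizer_im π hx) ?_ hf0 ?_
    (ho ▸ hdeg)).resolve_left fun e => hns fun g hg =>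
      mem_scal_of_finrank_eq_one e (hirr.inv g hg)
  · obtain ⟨m, hm⟩ := card_im_dvd π hle
    rw [hm, Nat.cast_mul, e, zero_mul]
  · rintro z hz h1 _ ⟨g, hg, rfl⟩ hs
    obtain ⟨j, rfl⟩ := (mem_powers_iff_mem_zpowers.2 hz)
    simp only at h1 hs
    rw [← map_pow, ← map_commutatorElement, h.mem_scal_iff] at hs
    refine h.mem_scal_iff.2 (hf j (fun e => h1 ?_) g hg hs)
    rw [← orderOf_dvd_iff_pow_eq_one, ho]; exact e
  · ext w
    rw [h.aeval]
    exact hfx w w.2

section FS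

variable {G : Type u} [Group G] [Finite G] {ρ : Representation k G V}
  (hρ : Function.Injective ρ) {q : ℕ} [hq : Fact q.Prime] {R : Subgroup G}
  (hR : IsPGroup q R) (hk : (q : k) ≠ 0) (hc : ⁅R, R⁆ ≤ scal ρ ⊤)
  (hZ : R ⊓ centralizer (R : Set G) ≤ scal ρ ⊤)
include hρ hR hk hc hZ

omit hk in
theorem not_commutator_le_scal {X : Subgroup G} (hX : X ≤ normalizer (R : Set G))
    (hcop : (Nat.card X).Coprime (Nat.card R)) (hne : ⁅R, X⁆ ≠ ⊥) {U : Submodule k V}
    (hU : IsIrr ρ ⁅R, X⁆ U) : ¬ ⁅R, X⁆ ≤ scal ρ U := fun h => hne (by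
  have hsol := Coprime.isSolvable_of_isPGroup hR
  have h1 := hU.commutator_inf_scal hρ hsol hc hX hcop
  rw [inf_eq_left.2 h] at h1
  rw [← Coprime.commutator_commutator_eq hX hcop (Or.inr hsol),
    commutator_eq_bot_iff_le_centralizer]
  exact (le_inf (Coprime.commutator_le_of_le_normalizer hX) (h1.le.trans inf_le_right)).trans
    (hZ.trans ((scal_top_le_center hρ).trans (center_le_centralizer _))))

theorem top_mem_comps {X : Subgroup G} (hX : X ≤ normalizer (R : Set G))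
    (hcop : (Nat.card X).Coprime (Nat.card R)) (h0 : (⊤ : Submodule k V) ≠ ⊥) :
    ⊤ ∈ comps ρ ⁅R, X⁆ := by
  obtain ⟨U, -, hU⟩ := (isInv_top (ρ := ρ) ⁅R, X⁆).exists_isIrr_le h0
  exact hU.hcomp_commutator_eq_top hρ (Coprime.isSolvable_of_isPGroup hR) hc hX hcop
    (card_ne_zero_of_isPGroup hR hk)
    (hZ.trans ((scal_top_le_center hρ).trans (center_le_centralizer _))) ▸ hU.hcomp_mem_comps

/-- The element `y` lies in `R`. -/
theorem out_of_mem {a y : G} {r : ℕ} (hr : r.Prime) (hrq : r ≠ q) (hrk : (r : k) ≠ 0)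
    (ho : orderOf a = r) (ha : a ∈ normalizer (R : Set G)) (hne : ⁅R, zpowers a⁆ ≠ ⊥)
    (h0 : fix ρ (zpowers a) ≠ ⊥) (hy : y ∈ R) (hay : Commute a y) (hy1 : y ≠ 1) :
    Out ρ a y R := by
  have hsol := Coprime.isSolvable_of_isPGroup hR
  have hRk := card_ne_zero_of_isPGroup hR hk
  have hA := zpowers_le.2 ha
  have hrR := coprime_card_of_prime hr hrq hR
  have hcop : (Nat.card (zpowers a)).Coprime (Nat.card R) := by rwa [Nat.card_zpowers, ho]
  have hcen := hc.trans (scal_top_le_center hρ)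
  set Q := ⁅R, zpowers a⁆
  have hQR : Q ≤ R := Coprime.commutator_le_of_le_normalizer hA
  have hQk := card_ne_zero_of_le hRk hQR
  have hyC : y ∈ R ⊓ centralizer (zpowers a : Set G) := ⟨hy, mem_centralizer_zpowers.2 hay⟩
  have hyQ : y ∈ centralizer (Q : Set G) := commutator_eq_bot_iff_le_centralizer.1
    (commutator_inf_centralizer_commutator (hcen.trans (center_le_centralizer _))) hyC
  have hry : r.Coprime (orderOf y) := hrR.coprime_dvd_right (R.orderOf_dvd_natCard hy)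
  have hAk : (Nat.card (zpowers a) : k) ≠ 0 := by rwa [Nat.card_zpowers, ho]
  have hYk : (Nat.card (zpowers y) : k) ≠ 0 := card_ne_zero_of_le hRk (zpowers_le.2 hy)
  have h1 : y ∉ kerOn ρ (fix ρ (zpowers a)) := fun h => hy1 (by
    refine eq_one_of_mem_scal_top hρ (hZ (mem_inf.2 ⟨hy, ?_⟩)) h0 h
    rw [← zpowers_le, le_centralizer_iff]
    refine (Coprime.centralizer_sup_commutator hA hcop (Or.inr hsol)).ge.trans (sup_le ?_ ?_)
    · intro g hg
      rw [mem_centralizer_zpowers, ← commutatorElement_eq_one_iff_commute]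
      exact eq_one_of_mem_scal_top hρ (hc (commutator_mem_commutator hy hg.1)) h0
        (commutator_mem_kerOn_of_mem_scal (kerOn_le_scal _ h)
          (isInv_iff_le_stab.1 (isInv_fix (centralizer_le_normalizer _)) hg.2))
    · rw [le_centralizer_iff, zpowers_le]; exact hyQ)
  obtain ⟨v, hv, hv'⟩ : ∃ v ∈ fix ρ (zpowers a), ρ y v ≠ v := by
    by_contra h; push Not at h; exact h1 h
  have hx := mem_zpowers_mul_of_coprime hay (ho ▸ hry)
  have haQ : a ∈ normalizer (Q : Set G) := normalizer_commutator_ge_right _ _ (mem_zpowers a)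
  have hyQ' : y ∈ normalizer (Q : Set G) := centralizer_le_normalizer _ hyQ
  set J := Q ⊔ zpowers (a * y)
  have hJk : (Nat.card J : k) ≠ 0 := by
    refine card_ne_zero_of_le (Q := zpowers a ⊔ R) (fun e => ?_) (sup_le (hQR.trans le_sup_right)
      (zpowers_le.2 (mul_mem_sup (mem_zpowers a) hy)))
    obtain ⟨m, hm⟩ := Core.card_sup_dvd_of_le_normalizer hA
    have := mul_ne_zero hAk hRk
    rw [← Nat.cast_mul, hm, Nat.cast_mul, e, zero_mul] at this
    exact this rfl
  have hJ : IsInv ρ J (cmt ρ (zpowers y)) := isInv_cmt ((sup_le (le_centralizer_iff.1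
    (zpowers_le.2 hyQ)) (zpowers_le.2 (mem_centralizer_zpowers.2
      (hay.symm.mul_right (Commute.refl y))))).trans (centralizer_le_normalizer _))
  obtain ⟨E, hE, hirr, hE'⟩ : ∃ E ≤ cmt ρ (zpowers y), IsIrr ρ J E ∧ ¬ E ≤ cmt ρ (zpowers a) := by
    by_contra h
    push Not at h
    refine hv' (sub_eq_zero.1 ((Submodule.mem_bot k).1 ?_))
    rw [← (isCompl_fix_cmt (ρ := ρ) hAk).inf_eq_bot]
    exact ⟨sub_mem (rho_mem_fix_zpowers hay hv) hv,
      hJ.le_of_forall_isIrr hJk h (sub_mem_cmt (mem_zpowers y) v)⟩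
  have hst := isInv_iff_le_stab.1 hirr.inv
  have hxJ : zpowers (a * y) ≤ J := le_sup_right
  obtain ⟨U, hUE, hU, hxU⟩ := exists_isIrr_stab_le hQk
    (top_mem_comps hρ hR hk hc hZ hA hcop fun e => hirr.ne_bot (eq_bot_iff.2 (e ▸ le_top)))
    (hirr.inv.mono le_sup_left) le_top hirr.ne_bot (mul_mem haQ hyQ') (hst (hxJ (mem_zpowers _)))
  obtain rfl : U = E := (hirr.eq_bot_or_eq U hUE
    (hU.inv.sup_left (isInv_iff_le_stab.2 (zpowers_le.2 hxU)))).resolve_left hU.ne_bot
  have h2 : ∀ u ∈ U, ρ y u = u → u = 0 := fun u hu e => (Submodule.mem_bot k).1 (by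
    rw [← (isCompl_fix_cmt (ρ := ρ) hYk).inf_eq_bot]
    exact ⟨mem_fix_zpowers.2 e, hE hu⟩)
  obtain ⟨u, hu, hu0⟩ : ∃ u ∈ U ⊓ fix ρ (zpowers a), u ≠ 0 := (Submodule.ne_bot_iff _).1 fun e =>
    hE' (by
      rw [← (hirr.inv.mono ((zpowers_le.2 hx.1).trans hxJ)).inf_fix_sup_inf_cmt hAk, e, bot_sup_eq]
      exact inf_le_right)
  exact (out_of_isIrr (Core.isSolvable_of_le hsol hQR) hQk hU
    ((commutator_mono hQR hQR).trans (hc.trans (scal_anti le_top))) hr ho
    (hrR.coprime_dvd_right (card_dvd_of_le hQR)) haQ hyQ' (hst (hxJ hx.1)) (hst (hxJ hx.2)) hay hry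
    ((commutator_inf_centralizer_le hcen hA hcop).trans (hc.trans (scal_anti le_top)))
    (not_commutator_le_scal hρ hR hc hZ hA hcop hne hU) (Or.inl h2) hu.1 hu.2
    fun e => hu0 (h2 u hu.1 e)).mono hQR

/-- The element `y` acts on `R / Z(R)` as an element of prime order `t`. -/
theorem out_or_exc {a y : G} {r : ℕ} (hr : r.Prime) (hrq : r ≠ q) (ho : orderOf a = r)
    (ha : a ∈ normalizer (R : Set G)) (hCa : R ⊓ centralizer (zpowers a : Set G) ≤ scal ρ ⊤)
    {t n : ℕ} (ht : t.Prime) (htq : t ≠ q) (htr : t ≠ r) (hyo : y ^ t ^ n = 1)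
    (hy : y ∈ normalizer (R : Set G)) (hay : Commute a y) (hyt : y ^ t ∈ centralizer (R : Set G))
    (hne : ⁅R, zpowers y⁆ ≠ ⊥) (h0 : (⊤ : Submodule k V) ≠ ⊥) :
    Out ρ a y R ∨ (t = 2 ∧ (centralizer (R : Set G)).relIndex ⁅R, zpowers y⁆ = (2 * r - 1) ^ 2) := by
  have hsol := Coprime.isSolvable_of_isPGroup hR
  have hRk := card_ne_zero_of_isPGroup hR hk
  have hY := zpowers_le.2 hy
  have hrR := coprime_card_of_prime hr hrq hR
  have hyd := orderOf_dvd_of_pow_eq_one hyo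
  have hyR : (orderOf y).Coprime (Nat.card R) :=
    ((coprime_card_of_prime ht htq hR).pow_left n).coprime_dvd_left hyd
  have hry : r.Coprime (orderOf y) :=
    (((Nat.coprime_primes hr ht).2 htr.symm).pow_right n).coprime_dvd_right hyd
  have hcop : (Nat.card (zpowers y)).Coprime (Nat.card R) := by rwa [Nat.card_zpowers]
  have hcen := hc.trans (scal_top_le_center hρ)
  set Q := ⁅R, zpowers y⁆
  have hQR : Q ≤ R := Coprime.commutator_le_of_le_normalizer hY
  have hQk := card_ne_zero_of_le hRk hQR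
  have hQs := Core.isSolvable_of_le hsol hQR
  have hx := mem_zpowers_mul_of_coprime hay (ho ▸ hry)
  have hyQ : y ∈ normalizer (Q : Set G) := normalizer_commutator_ge_right _ _ (mem_zpowers y)
  have haQ : a ∈ normalizer (Q : Set G) := Core.le_normalizer_commutator (zpowers_le.2 ha)
    (zpowers_le.2 (centralizer_le_normalizer _ (mem_centralizer_zpowers.2 hay.symm)))
    (mem_zpowers a)
  obtain ⟨U, -, hU, hxU⟩ := exists_isIrr_stab hQk (top_mem_comps hρ hR hk hc hZ hY hcop h0)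
    (mul_mem haQ hyQ) (isInv_iff_le_stab.1 (isInv_top ⊤) (mem_top _))
  have haU := zpowers_le.2 hxU hx.1
  have hyU := zpowers_le.2 hxU hx.2
  have hns := not_commutator_le_scal hρ hR hc hZ hY hcop hne hU
  have hQQ : ⁅Q, Q⁆ ≤ scal ρ U := (commutator_mono hQR hQR).trans (hc.trans (scal_anti le_top))
  have hC1 : Q ⊓ centralizer (zpowers a : Set G) ≤ scal ρ U :=
    (inf_le_inf_right _ hQR).trans (hCa.trans (scal_anti le_top))
  have hC2 : Q ⊓ centralizer (zpowers y : Set G) ≤ scal ρ U :=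
    (commutator_inf_centralizer_le hcen hY hcop).trans (hc.trans (scal_anti le_top))
  have hrQ := hrR.coprime_dvd_right (card_dvd_of_le hQR)
  have hyQ' := hyR.coprime_dvd_right (card_dvd_of_le hQR)
  by_cases h1 : ∃ u ∈ U, u ∈ fix ρ (zpowers a) ∧ ρ y u ≠ u
  · obtain ⟨u, hu, hua, h1⟩ := h1
    exact Or.inl ((out_of_isIrr hQs hQk hU hQQ hr ho hrQ haQ hyQ haU hyU hay hry hC1 hns
      (Or.inr ⟨hyQ', hC2⟩) hu hua h1).mono hQR)
  push Not at h1
  right
  have hfa : ∀ z ∈ stab ρ U, a ∈ zpowers z → ∀ g ∈ Q, ⁅g, z⁆ ∈ scal ρ U → g ∈ scal ρ U :=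
    fun z hz h2 g hg h3 => mem_scal_of_commutator_mem hU.inv haQ haU (ho ▸ hrQ) hC1 hz h2 hg h3
  have har : a ^ r = 1 := ho ▸ pow_orderOf_eq_one a
  have hgeo : ∀ b : G, zpowers b = zpowers a → ∀ w ∈ U,
      aeval (ρ b) (∑ i ∈ Finset.range r, (X : k[X]) ^ i) w ∈ U ⊓ fix ρ (zpowers a) := by
    intro b hb w hw
    have hb' : b ∈ zpowers a := hb ▸ mem_zpowers b
    refine ⟨?_, hb ▸ aeval_geom_mem_fix (by
      rw [orderOf_dvd_iff_pow_eq_one.1 (ho ▸ orderOf_dvd_of_mem_zpowers hb'), map_one]) w⟩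
    rw [← show ((⟨b, zpowers_le.2 haU hb'⟩ : stab ρ U) : G) = b from rfl,
      ← show ((⟨w, hw⟩ : U) : V) = w from rfl, ← aeval_restr]
    exact Submodule.coe_mem _
  by_cases h2 : U ⊓ fix ρ (zpowers a) = ⊥
  · exfalso
    have hf : ∀ h ∈ zpowers a, h ≠ 1 → ∀ g ∈ Q, ⁅g, h⁆ ∈ scal ρ U → g ∈ scal ρ U :=
      fun h hh h3 => hfa h (zpowers_le.2 haU hh) (zpowers_eq_of_prime hr ho hh h3 ▸ mem_zpowers a)
    rcases critical_on hQs hQk hU haQ haU hf (geom_ne_zero hr.pos.ne')
      (fun w hw => (Submodule.mem_bot k).1 (h2 ▸ hgeo a rfl w hw))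
      ((natDegree_geom_le _).trans_lt (by have := hr.pos; omega)) with h3 | ⟨h3, -⟩
    · exact hns fun g hg => mem_scal_of_finrank_eq_one h3 (hU.inv g hg)
    · refine hns ?_
      obtain ⟨d, hd⟩ := hU.exists_finrank_eq_pow (hR.to_le hQR) hQk
      refine (Coprime.commutator_commutator_eq hY hcop (Or.inr hsol)).ge.trans
        (le_relC.1 (zpowers_le.2 ⟨normalizer_scal (isInv_stab U) hyU, fun g hg => ?_⟩)).2
      exact commutator_mem_scal_of_commute_on hQs hQk hU hQQ haQ hyQ haU hyU hay (ho ▸ hry) h3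
        (by rw [hd, Nat.cast_pow]; exact pow_ne_zero _ hk) hf hg
  have h3 : y ^ t ∈ kerOn ρ U := inf_scal_le_kerOn inf_le_left h2
    ⟨pow_mem (show y ∈ kerOn ρ (U ⊓ fix ρ (zpowers a)) from fun u hu => h1 u hu.1 hu.2) t,
      hU.mem_scal_of_commute (pow_mem hyU t)
      (centralizer_le (SetLike.coe_subset_coe.2 hQR) hyt)⟩
  have hrt : r.Coprime t := (Nat.coprime_primes hr ht).2 htr.symm
  have hdeg : ((X - 1) * expand k t (∑ i ∈ Finset.range r, (X : k[X]) ^ i)).natDegree ≤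
      1 + (r - 1) * t := by
    refine natDegree_mul_le.trans (add_le_add ?_ ?_)
    · rw [← C_1]; exact natDegree_X_sub_C_le 1
    · rw [natDegree_expand]; exact Nat.mul_le_mul_right _ (natDegree_geom_le r)
  obtain ⟨r', rfl⟩ : ∃ r', r = r' + 1 := ⟨r - 1, by have := hr.pos; omega⟩
  have ht2 := ht.two_le
  obtain ⟨h4, h5⟩ := critical_mod hQs hQk hU hns (mul_mem haQ hyQ) hxU (n := (r' + 1) * t)
    (by
      rw [hay.mul_pow, pow_mul, har, one_pow, one_mul, mul_comm, pow_mul]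
      exact pow_mem h3 _)
    (fun j hj g hg hs => by
      have hm := mem_zpowers_mul_of_coprime (hay.pow_pow j j)
        (((ho ▸ hry : (orderOf a).Coprime (orderOf y)).coprime_dvd_left
          (orderOf_pow_dvd j)).coprime_dvd_right (orderOf_pow_dvd j))
      rw [← hay.mul_pow] at hm
      by_cases h6 : (r' + 1) ∣ j
      · refine mem_scal_of_commutator_mem hU.inv hyQ hyU hyQ' hC2 (pow_mem hxU j)
          (zpowers_le.2 hm.2 (mem_zpowers_pow_iff.2 ?_)) hg hs
        exact (((Nat.Prime.coprime_iff_not_dvd ht).2 fun h7 =>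
          hj (hrt.mul_dvd_of_dvd_of_dvd h6 h7)).symm.pow_right n).coprime_dvd_right hyd
      · refine hfa _ (pow_mem hxU j) (zpowers_le.2 hm.1 (mem_zpowers_pow_iff.2 ?_)) g hg hs
        rw [ho]
        exact ((Nat.Prime.coprime_iff_not_dvd hr).2 h6).symm)
    (f := (X - 1) * expand k t (∑ i ∈ Finset.range (r' + 1), (X : k[X]) ^ i))
    (mul_ne_zero (by rw [← C_1]; exact X_sub_C_ne_zero 1)
      ((expand_ne_zero ht.pos).2 (geom_ne_zero hr.pos.ne')))
    (fun w hw => by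
      have h6 := hgeo (a ^ t) (le_antisymm (zpowers_le.2 (npow_mem_zpowers a t))
        (zpowers_le.2 (mem_zpowers_pow_iff.2 (ho ▸ hrt.symm)))) w hw
      have h7 : aeval (ρ (a * y) ^ t) (∑ i ∈ Finset.range (r' + 1), (X : k[X]) ^ i) w =
          aeval (ρ (a ^ t)) (∑ i ∈ Finset.range (r' + 1), (X : k[X]) ^ i) w := by
        simp only [map_sum, map_pow, aeval_X, LinearMap.sum_apply]
        refine Finset.sum_congr rfl fun i _ => ?_
        rw [← map_pow, ← map_pow, ← map_pow, ← map_pow, hay.mul_pow, (hay.pow_pow t t).mul_pow,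
          rho_mul_apply, pow_mem h3 i w hw]
      rw [map_mul, Module.End.mul_apply, expand_aeval, h7, map_sub, aeval_X, map_one,
        LinearMap.sub_apply, rho_mul_apply, h1 _ h6.1 h6.2, mem_fix_zpowers.1 h6.2,
        Module.End.one_apply, sub_self])
    (hdeg.trans_lt (by rw [Nat.add_sub_cancel]; nlinarith))
  rw [Nat.add_sub_cancel] at hdeg
  obtain rfl : t = 2 := by nlinarith
  refine ⟨rfl, ?_⟩
  rw [← hU.sq_finrank_eq_commutator hρ hsol hc hY hcop hRk]
  congr 1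
  omega

end FS

end Cfsg.Agent.Mod
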