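import Mathlib
import Cfsg.Agent.Lib.Mod.TurullFix
import Cfsg.Agent.Lib.Coprime.FixTools

/-! The half-Fermat exception cannot occur below a non-nilpotent group. -/

set_option autoImplicit false

namespace Cfsg.Agent.Mod

open Module Polynomial Subgroup
open scoped commutatorElement

universe u

theorem eq_zero_or_eq_of_half_fermat {q r c D : ℕ} (hq : q.Prime) (hr : r.Prime) (hr2 : r ≠ 2)
    (hD : q ^ D = (2 * r - 1) ^ 2) (hc : c ≤ D) (h : q ^ c ≡ 1 [MOD r]) : c = 0 ∨ c = D := by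
  obtain ⟨b, -, hb⟩ := (Nat.dvd_prime_pow hq).1 (hD ▸ dvd_pow_self (2 * r - 1) two_ne_zero)
  have hr1 := hr.two_le
  have hq1 := hq.two_le
  obtain rfl : D = b * 2 := Nat.pow_right_injective hq1 (by simp only; rw [hD, hb, pow_mul])
  have key : ∀ e, 0 < e → e ≤ b → ¬ q ^ e ≡ 1 [MOD r] := by
    intro e he heb h1
    have h2 : 1 < q ^ e := Nat.one_lt_pow he.ne' hq1
    have h3 : r ∣ q ^ e - 1 := (Nat.modEq_iff_dvd' h2.le).1 h1.symm
    rcases heb.eq_or_lt with rfl | h4
    · rw [← hb] at h3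
      have h5 : r ∣ 2 * r - (2 * r - 1 - 1) := Nat.dvd_sub (dvd_mul_left r 2) h3
      rw [show 2 * r - (2 * r - 1 - 1) = 2 by omega] at h5
      exact hr2 ((Nat.prime_dvd_prime_iff_eq hr Nat.prime_two).1 h5)
    · have h5 := Nat.le_of_dvd (by omega) h3
      have h6 : q ^ (e + 1) ≤ q ^ b := Nat.pow_le_pow_right hq.pos h4
      rw [pow_succ, ← hb] at h6
      have : q ^ e * 2 ≤ q ^ e * q := Nat.mul_le_mul_left _ hq1
      omega
  by_contra h1
  push Not at h1
  rcases le_or_gt c b with h2 | h2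
  · exact key c (Nat.pos_of_ne_zero h1.1) h2 h
  · refine key (b * 2 - c) (by omega) (by omega) ?_
    have h3 : q ^ (b * 2) ≡ 1 [MOD r] := by
      rw [hD]
      obtain ⟨r', rfl⟩ : ∃ r', r = r' + 1 := ⟨r - 1, by omega⟩
      rw [show 2 * (r' + 1) - 1 = 2 * r' + 1 by omega,
        show (2 * r' + 1) ^ 2 = 1 + (r' + 1) * (4 * r') by ring]
      exact Nat.modEq_iff_dvd' (Nat.le_add_right _ _) |>.2 (by simp) |>.symm
    have h4 := h.mul_left (q ^ (b * 2 - c))
    rw [← pow_add, Nat.sub_add_cancel hc, mul_one] at h4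
    exact h4.symm.trans h3

section Exc

variable {q : ℕ} [hq : Fact q.Prime] {W : Type*} [AddCommGroup W] [Module (ZMod q) W]
  [FiniteDimensional (ZMod q) W] {G : Type*} [Group G] [Finite G]
  {σ : Representation (ZMod q) G W}

omit [Finite G] in
theorem pow_finrank_modEq_one {a : G} {r : ℕ} (hr : r.Prime) (har : a ^ r = 1)
    (h0 : fix σ (zpowers a) = ⊥) {U : Submodule (ZMod q) W} (hU : ∀ w ∈ U, σ a w ∈ U) :
    q ^ finrank (ZMod q) U ≡ 1 [MOD r] := by
  have : Finite W := Module.finite_of_finite (ZMod q)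
  let _ : MulAction G W := MulAction.compHom W (σ : G →* End (ZMod q) W)
  have h1 := Coprime.ncard_modEq_of_pow_eq_one (Ω := W) hr har (S := U) hU
  have h2 : (U : Set W) ∩ MulAction.fixedBy W a = {0} := by
    ext w
    constructor
    · rintro ⟨-, hw⟩
      exact (Submodule.mem_bot _).1 (h0 ▸ mem_fix_zpowers.2 hw)
    · rintro rfl
      exact ⟨U.zero_mem, map_zero (σ a)⟩
  rwa [h2, Set.ncard_singleton, ← Nat.card_coe_set_eq, SetLike.coe_sort_coe,
    Module.natCard_eq_pow_finrank (K := ZMod q), Nat.card_zmod] at h1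

omit [FiniteDimensional (ZMod q) W] [Finite G] in
theorem mem_cmt_iff_of_sq (hq2 : (2 : ZMod q) ≠ 0) {y : G} (hy : y ^ 2 = 1) {v : W} :
    v ∈ cmt σ (zpowers y) ↔ σ y v = -v := by
  constructor
  · intro hv
    refine Submodule.span_induction (p := fun v _ => σ y v = -v) ?_ (by simp)
      (fun x y _ _ hx hy => by rw [map_add, hx, hy, neg_add])
      (fun a x _ hx => by rw [map_smul, hx, smul_neg]) hv
    rintro _ ⟨h, ⟨i, rfl⟩, v, rfl⟩
    have h1 : y ^ i = 1 ∨ y ^ i = y := by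
      rcases Int.emod_two_eq_zero_or_one i with h | h
      · left; rw [zpow_eq_zpow_emod' i hy]; simp [h]
      · right; rw [zpow_eq_zpow_emod' i hy]; simp [h]
    rcases h1 with h | h
    · simp [h]
    · simp only [h, map_sub, ← rho_mul_apply, ← sq, hy, map_one, Module.End.one_apply, neg_sub]
  · intro hv
    have : v = (-2 : ZMod q)⁻¹ • (σ y v - v) := by
      rw [hv, show -v - v = (-2 : ZMod q) • v by rw [neg_smul, two_smul]; abel, smul_smul,
        inv_mul_cancel₀ (neg_ne_zero.2 hq2), one_smul]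
    rw [this]
    exact Submodule.smul_mem _ _ (sub_mem_cmt (mem_zpowers y) v)

theorem false_of_half_fermat (hσ : Function.Injective σ) {T : Subgroup G} {a : G} {r : ℕ}
    (hr : r.Prime) (har : a ^ r = 1) (hT : T ≤ centralizer (zpowers a : Set G))
    (h0 : fix σ (zpowers a) = ⊥) (hE : IsPGroup 2 (nres T)) (hne : nres T ≠ ⊥) (hq2 : q ≠ 2)
    (hr2 : r ≠ 2) (hdim : ∀ y ∈ nres T, orderOf y = 2 →
      q ^ finrank (ZMod q) (cmt σ (zpowers y)) = (2 * r - 1) ^ 2) : False := by
  have h2 : (2 : ZMod q) ≠ 0 := natCast_ne_zero_of_ne (ZMod q) Nat.prime_two hq2.symm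
  have hsq : ∀ y : G, orderOf y = 2 → y ^ 2 = 1 := fun y h => h ▸ pow_orderOf_eq_one y
  have hinv : ∀ y g : G, Commute y g → ∀ w ∈ cmt σ (zpowers y), σ g w ∈ cmt σ (zpowers y) :=
    fun y g h => isInv_cmt (centralizer_le_normalizer _) g (mem_centralizer_zpowers.2 h)
  have hca : ∀ y ∈ T, Commute y a := fun y hy => (mem_centralizer_zpowers.1 (hT hy)).symm
  have hirr : ∀ y ∈ nres T, orderOf y = 2 → ∀ U ≤ cmt σ (zpowers y), (∀ w ∈ U, σ a w ∈ U) →
      U = ⊥ ∨ U = cmt σ (zpowers y) := fun y hy ho U hU hUa =>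
    (eq_zero_or_eq_of_half_fermat hq.out hr hr2 (hdim y hy ho) (Submodule.finrank_mono hU)
      (pow_finrank_modEq_one hr har h0 hUa)).imp Submodule.finrank_eq_zero.1
      (Submodule.eq_of_le_of_finrank_eq hU)
  have hA : ∀ y ∈ nres T, orderOf y = 2 → ∀ z ∈ nres T, orderOf z = 2 → Commute y z →
      cmt σ (zpowers y) ≤ cmt σ (zpowers z) → y = z := by
    intro y hy ho z hz ho' hc hle
    have e : cmt σ (zpowers y) = cmt σ (zpowers z) := Submodule.eq_of_le_of_finrank_eq hle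
      (Nat.pow_right_injective hq.out.two_le ((hdim y hy ho).trans (hdim z hz ho').symm))
    refine hσ (LinearMap.ext fun v => ?_)
    have h3 := (mem_cmt_iff_of_sq h2 (hsq z ho')).1 (e.le (sub_mem_cmt (mem_zpowers y) v))
    have h4 := (mem_cmt_iff_of_sq h2 (hsq y ho)).1 (e.ge (sub_mem_cmt (mem_zpowers z) v))
    rw [map_sub, ← rho_mul_apply] at h3 h4
    rw [hc.eq] at h4
    have h5 : (2 : ZMod q) • (σ y v - σ z v) = 0 := by
      rw [two_smul]
      linear_combination (norm := abel) h3 - h4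
    exact sub_eq_zero.1 ((smul_eq_zero.1 h5).resolve_left h2)
  have hB : ∀ y ∈ nres T, orderOf y = 2 → ∀ z ∈ nres T, orderOf z = 2 → Commute y z → y = z := by
    intro y hy ho z hz ho' hc
    rcases hirr y hy ho (cmt σ (zpowers y) ⊓ cmt σ (zpowers z)) inf_le_left (fun w hw =>
      ⟨hinv y a (hca y (nres_le T hy)) w hw.1, hinv z a (hca z (nres_le T hz)) w hw.2⟩) with h | h
    · have h3 : (y * z) ^ 2 = 1 := by rw [hc.mul_pow, hsq y ho, hsq z ho', one_mul]
      by_cases h4 : y * z = 1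
      · rw [eq_inv_of_mul_eq_one_left h4, inv_eq_iff_mul_eq_one, ← sq, hsq z ho']
      have := Fact.mk Nat.prime_two
      have h5 := hA y hy ho (y * z) (mul_mem hy hz) (orderOf_eq_prime h3 h4)
        ((Commute.refl y).mul_right hc) fun v hv => by
          have h6 : σ z v - v = 0 := (Submodule.mem_bot _).1 (h.le ⟨sub_mem (hinv y z hc v hv) hv,
            sub_mem_cmt (mem_zpowers z) v⟩)
          rw [mem_cmt_iff_of_sq h2 h3, rho_mul_apply, sub_eq_zero.1 h6]
          exact (mem_cmt_iff_of_sq h2 (hsq y ho)).1 hv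
      rw [left_eq_mul.1 h5, orderOf_one] at ho'
      exact absurd ho' (by norm_num)
    · exact hA y hy ho z hz ho' hc (inf_eq_left.1 h)
  have := Fact.mk Nat.prime_two
  obtain ⟨y, hy, ho⟩ := PGrp.exists_orderOf_eq_prime_of_ne_bot (hE.to_le inf_le_left)
    (PGrp.inf_centralizer_ne_bot hE hE le_normalizer hne)
  have hTy : ∀ g ∈ T, Commute y g := fun g hg => by
    have h3 := Coprime.conj_mem_of_le_normalizer
      (le_normalizer.trans (normalizer_le_normalizer_nres T)) hg hy.1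
    have h4 := hB y hy.1 ho _ h3 (by rw [← ho]; exact (MulAut.conj g).orderOf_eq y) (hy.2 _ h3).symm
    rw [eq_mul_inv_iff_mul_eq] at h4
    exact h4
  have hN : cmt σ (zpowers y) ≠ ⊥ := fun e => by
    have h3 := hdim y hy.1 ho
    rw [e, finrank_bot, pow_zero, eq_comm, Nat.pow_eq_one] at h3
    have := hr.two_le
    omega
  obtain ⟨v, hv, hv0⟩ := (Submodule.ne_bot_iff _).1 hN
  have hcomm : ∀ g ∈ T, ∀ (f : (ZMod q)[X]) (w : W), σ g (aeval (σ a) f w) = aeval (σ a) f (σ g w) := by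
    intro g hg f w
    simp only [aeval_eq_sum_range, LinearMap.sum_apply, LinearMap.smul_apply, map_sum, map_smul,
      ← map_pow, ← rho_mul_apply, ((hca g hg).pow_right _).eq]
  let φ : (ZMod q)[X] →ₗ[ZMod q] W := (LinearMap.applyₗ v).comp (aeval (σ a)).toLinearMap
  have hφ : ∀ f, φ f = aeval (σ a) f v := fun _ => rfl
  have hrange : LinearMap.range φ = cmt σ (zpowers y) := by
    refine (hirr y hy.1 ho _ ?_ ?_).resolve_left fun e => hv0 ?_
    · rintro _ ⟨f, rfl⟩
      rw [mem_cmt_iff_of_sq h2 (hsq y ho), hφ, hcomm y (nres_le T hy.1),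
        (mem_cmt_iff_of_sq h2 (hsq y ho)).1 hv, map_neg]
    · rintro _ ⟨f, rfl⟩
      exact ⟨X * f, by rw [hφ, hφ, map_mul, aeval_X]; rfl⟩
    · rw [← Submodule.mem_bot (ZMod q), ← e]
      exact ⟨1, by rw [hφ, map_one]; rfl⟩
  have h3 : ⁅T, T⁆ ≤ kerOn σ (cmt σ (zpowers y)) := commutator_le.2 fun g hg h hh =>
    commutator_mem_kerOn_of_comm (hinv y _ (hTy g hg).inv_right) (hinv y _ (hTy h hh).inv_right)
      fun w hw => by
        obtain ⟨p, rfl⟩ := hrange.ge hw
        obtain ⟨f, hf⟩ := hrange.ge (hinv y g (hTy g hg) v hv)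
        obtain ⟨f', hf'⟩ := hrange.ge (hinv y h (hTy h hh) v hv)
        rw [hφ] at hf hf' ⊢
        rw [hcomm g hg, hcomm h hh, hcomm h hh, hcomm g hg, ← hf, ← hf', hcomm h hh, hcomm g hg,
          ← hf, ← hf', ← Module.End.mul_apply (aeval _ f), ← Module.End.mul_apply (aeval _ f'),
          ← map_mul, ← map_mul, mul_comm]
  have h4 := h3 (nres_le_lcs T 1 hy.1) v hv
  rw [(mem_cmt_iff_of_sq h2 (hsq y ho)).1 hv, neg_eq_iff_add_eq_zero, ← two_smul (ZMod q),
    smul_eq_zero] at h4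
  exact h4.elim h2 hv0

end Exc

/-- Linearization of an elementary abelian section, with the kernel. -/
theorem exists_rep_section' {Γ : Type u} [Group Γ] [Finite Γ] {t : ℕ} [ht : Fact t.Prime]
    (K : Type) [Field K] [CharP K t] {R Y : Subgroup Γ} [R.Normal] [Y.Normal]
    (hc : ⁅R, R⁆ ≤ Y) (hexp : ∀ g ∈ R, g ^ t ∈ Y) :
    ∃ (W : Type u) (_ : AddCommGroup W) (_ : Module K W) (_ : FiniteDimensional K W)
      (ρ : Representation K Γ W), (∀ H : Subgroup Γ, ¬ t ∣ Nat.card H →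
        t ^ finrank K (cmt ρ H) = Y.relIndex ⁅R, H⁆) ∧
      (∀ H : Subgroup Γ, fix ρ H = ⊥ ↔ ∀ g ∈ R, (∀ h ∈ H, ⁅g, h⁆ ∈ Y) → g ∈ Y) ∧
      ∀ g, ρ g = 1 ↔ ∀ x ∈ R, ⁅x, g⁆ ∈ Y := by
  let π := QuotientGroup.mk' Y
  have hπ : Function.Surjective π := QuotientGroup.mk'_surjective Y
  have : (R.map π).Normal := Normal.map inferInstance π hπ
  have hcomm : IsMulCommutative (R.map π) := by
    rwa [← Subgroup.le_centralizer_iff_isMulCommutative, ← commutator_eq_bot_iff_le_centralizer,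
      ← map_commutator, Core.map_mk_eq_bot_iff]
  have hE : IsElementaryAbelian t (R.map π) := ⟨hcomm, by
    rintro _ ⟨g, hg, rfl⟩
    rw [← map_pow]
    exact (QuotientGroup.eq_one_iff _).2 (hexp g hg)⟩
  obtain ⟨W, _, _, _, ρ, ι, hlin⟩ := exists_isLin K hE
  have hfix : ∀ H : Subgroup Γ, fix (ρ.comp π) H = fix ρ (H.map π) := fun H => by
    ext v
    simp only [mem_fix]
    exact ⟨fun h _ ⟨a, ha, e⟩ => e ▸ h a ha, fun h a ha => h _ ⟨a, ha, rfl⟩⟩
  refine ⟨W, _, _, inferInstance, ρ.comp π, fun H hH => ?_, fun H => ?_, fun g => ?_⟩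
  · have h1 := Submodule.finrank_add_eq_of_isCompl
      (isCompl_fix_cmt (ρ := ρ.comp π) (natCast_ne_zero_of_not_dvd K hH))
    have hcop : (Nat.card (H.map π)).Coprime (Nat.card (R.map π)) := by
      rw [hlin.card_eq]
      exact ((ht.out.coprime_iff_not_dvd.2 hH).symm.coprime_dvd_left (card_map_dvd H π)).pow_right _
    have h2 := Core.card_sup_of_disjoint (A := R.map π ⊓ centralizer ((H.map π : Subgroup _) : Set _))
      (N := ⁅R.map π, H.map π⁆) (inf_le_left.trans (normalizer_commutator_ge_left _ _))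
      (Coprime.centralizer_inf_commutator_eq_bot le_normalizer_of_normal hcop hcomm)
    rw [Coprime.centralizer_sup_commutator le_normalizer_of_normal hcop
      (Or.inr (Coprime.isSolvable_of_isMulCommutative hcomm)), hlin.card_eq, hlin.card_fix,
      ← map_commutator, Core.card_map_mk_eq_relIndex, ← h1, pow_add, hfix] at h2
    exact Nat.eq_of_mul_eq_mul_left (pow_pos ht.out.pos _) h2
  · rw [hfix, hlin.fix_eq_bot_iff, eq_bot_iff]
    constructor
    · intro h g hg h1
      refine (QuotientGroup.eq_one_iff _).1 (h (x := π g) ⟨⟨g, hg, rfl⟩, ?_⟩)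
      rintro _ ⟨a, ha, rfl⟩
      rw [eq_comm, ← commutatorElement_eq_one_iff_mul_comm, ← map_commutatorElement]
      exact (QuotientGroup.eq_one_iff _).2 (h1 a ha)
    · rintro h _ ⟨⟨g, hg, rfl⟩, h1⟩
      refine (QuotientGroup.eq_one_iff _).2 (h g hg fun a ha => (QuotientGroup.eq_one_iff _).1 ?_)
      change π _ = 1
      rw [map_commutatorElement, commutatorElement_eq_one_iff_mul_comm]
      exact (h1 _ ⟨a, ha, rfl⟩).symm
  · refine hlin.eq_one_iff.trans ⟨fun h x hx => (QuotientGroup.eq_one_iff _).1 ?_, fun h => ?_⟩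
    · change π _ = 1
      rw [map_commutatorElement, commutatorElement_eq_one_iff_mul_comm]
      exact h _ ⟨x, hx, rfl⟩
    · rintro _ ⟨x, hx, rfl⟩
      rw [← commutatorElement_eq_one_iff_mul_comm, ← map_commutatorElement]
      exact (QuotientGroup.eq_one_iff _).2 (h x hx)

end Cfsg.Agent.Mod
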