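import Mathlib
import Cfsg.Agent.Lib.Mod.TurullFix

/-! The inductive step of Turull's theorem in module form. -/

set_option autoImplicit false

namespace Cfsg.Agent.Mod

open Module Polynomial Subgroup
open scoped commutatorElement

universe u

variable {k V : Type*} [Field k] [AddCommGroup V] [Module k V]
  [IsAlgClosed k] [FiniteDimensional k V] {G : Type u} [Group G] [Finite G]
  {ρ : Representation k G V}

theorem commutator_commutator_le_kerOn {t : ℕ} [ht : Fact t.Prime] {R : Subgroup G}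
    (hR : IsPGroup t R) (hk : (t : k) ≠ 0) {c : Submodule k V} (hc : ⁅R, R⁆ ≤ scal ρ c)
    (hexp : ∀ g ∈ R, g ^ t ∈ centralizer (R : Set G)) {s : ℕ} [hs : Fact s.Prime]
    {P : Subgroup G} (hP : IsPGroup s P) (hst : s ≠ t) (hPR : P ≤ normalizer (R : Set G))
    (hRP : ⁅R, P⁆ = R) {l : ℕ} (hl : l.Prime) (hlt : l ≠ t) (hls : l ≠ s) {b : G}
    (hbR : b ∈ normalizer (R : Set G)) (hb : b ∈ normalizer (P : Set G)) (ho : orderOf b = l)
    (hRc : IsInv ρ R c) (hPc : IsInv ρ P c) (hbc : b ∈ stab ρ c)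
    (h0 : c ⊓ fix ρ (zpowers b) = ⊥) : ⁅⁅R, zpowers b⁆, R⁆ ≤ kerOn ρ c := by
  set L := R ⊔ P ⊔ zpowers b
  have hRL : R ≤ L := le_sup_left.trans le_sup_left
  have hPL : P ≤ L := le_sup_right.trans le_sup_left
  have hbL : b ∈ L := mem_sup_right (mem_zpowers b)
  have hLR : L ≤ normalizer (R : Set G) := sup_le (sup_le le_normalizer hPR) (zpowers_le.2 hbR)
  obtain ⟨G', _, _, π, σ, h⟩ := exists_isFaithfulOn (L := L)
    ((hRc.sup_left hPc).sup_left (isInv_iff_le_stab.2 (zpowers_le.2 hbc)))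
  have := normal_im π h.surj hLR
  by_cases hb1 : π ⟨b, hbL⟩ = 1
  · have := h.eq_one_iff.1 hb1
    rw [inf_eq_left.2 (le_kerOn_iff.1 (zpowers_le.2 this))] at h0
    rw [h0, le_kerOn_iff]; exact bot_le
  have := Fact.mk hl
  have key := commutator_le_centralizer_of_prime h.inj (isPGroup_im π hR) hk
    (im_commutator π hRL hRL ▸ h.im_le_scal hc) (by
      rintro _ ⟨g, hg, rfl⟩
      rw [← map_pow]
      exact mem_centralizer_im π (hexp g hg)) (isPGroup_im π hP) hst
    (by rw [← im_commutator π hRL hPL, hRP]) hl hlt hls (b := π ⟨b, hbL⟩)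
    (mem_normalizer_im π hb) (orderOf_eq_prime (by
      rw [← map_pow, ← map_one π]
      exact congrArg π (Subtype.ext (by rw [← ho]; exact pow_orderOf_eq_one b))) hb1)
    (by rw [← im_zpowers, h.fix_eq_bot_iff (zpowers_le.2 hbL), h0])
  have h1 : ⁅R, zpowers b⁆ ≤ R := Coprime.commutator_le_of_le_normalizer (zpowers_le.2 hbR)
  rw [← h.im_eq_bot_iff ((commutator_mono h1 le_rfl).trans ((commutator_le_self R).trans hRL)),
    im_commutator π (h1.trans hRL) hRL, im_commutator π hRL (zpowers_le.2 hbL), im_zpowers π hbL,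
    commutator_eq_bot_iff_le_centralizer]
  exact key

section Step

variable {q : ℕ} [hq : Fact q.Prime] {P : Subgroup G} (hP : IsPGroup q P) (hk : (q : k) ≠ 0)
  (h2 : ⁅P, P⁆ ≤ centralizer (P : Set G)) (hexp : ∀ g ∈ P, g ^ q ∈ centralizer (P : Set G))
  {a : G} {r : ℕ} (hr : r.Prime) (hrq : r ≠ q) (ho : orderOf a = r)
  (ha : a ∈ normalizer (P : Set G))

include hP hk h2 hexp hr hrq ho ha in
/-- The exceptional components. -/
theorem commutator_le_relC_of_fix_eq_bot {c : Submodule k V} (hc : c ∈ comps ρ P)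
    (hac : a ∈ stab ρ c) (h0 : c ⊓ fix ρ (zpowers a) = ⊥) {B : Subgroup G}
    (hBP : B ≤ normalizer (P : Set G)) (hBc : B ≤ stab ρ c) (haB : a ∈ normalizer (B : Set G))
    (hqB : ¬ q ∣ Nat.card B) (hrB : ¬ r ∣ Nat.card B) :
    ⁅B, zpowers a⁆ ≤ relC P (P ⊓ scal ρ c) := by
  have hPk := card_ne_zero_of_isPGroup hP hk
  have hsol := Coprime.isSolvable_of_isPGroup hP
  have hst := isInv_stab (ρ := ρ) c
  have hPc := isInv_iff_le_stab.1 (isInv_of_mem_comps hc)
  have hn : ∀ X ≤ normalizer (P : Set G), X ≤ stab ρ c →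
      X ≤ normalizer ((P ⊓ scal ρ c : Subgroup G) : Set G) := fun X h1 h2 =>
    Core.le_normalizer_inf h1 (h2.trans (normalizer_scal hst))
  have hcop : (Nat.card (zpowers a)).Coprime (Nat.card B) := by
    rw [Nat.card_zpowers, ho]; exact (Nat.Prime.coprime_iff_not_dvd hr).2 hrB
  rw [commutator_comm]
  refine (le_relC.1 (Coprime.le_of_forall_isSylowIn fun t ht htB => ?_)).2
  have := Fact.mk ht
  obtain ⟨S, hS, haS⟩ := Coprime.exists_invariant_sylow t (zpowers_le.2 haB) hcop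
    (Or.inl inferInstance)
  have hSB : S ≤ B := hS.1
  have hSt : IsPGroup t S := hS.2.1
  refine ⟨S, hS, le_relC.2 ⟨le_normalizer_relC (hSB.trans hBP)
    (hn _ (hSB.trans hBP) (hSB.trans hBc)), ?_⟩⟩
  rw [commutator_comm]
  set T := ⁅S, zpowers a⁆
  have hTS : T ≤ S := Coprime.commutator_le_of_le_normalizer haS
  have hTP : T ≤ normalizer (P : Set G) := hTS.trans (hSB.trans hBP)
  have hTc : T ≤ stab ρ c := hTS.trans (hSB.trans hBc)
  have htq : t ≠ q := fun e => hqB (e ▸ htB)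
  have hTt := hSt.to_le hTS
  have hcT := coprime_card_of_isPGroup htq hTt hP
  set R := ⁅P, T⁆
  have hRP : R ≤ P := Coprime.commutator_le_of_le_normalizer hTP
  have hTR : T ≤ normalizer (R : Set G) := normalizer_commutator_ge_right _ _
  have haT : zpowers a ≤ normalizer (T : Set G) := normalizer_commutator_ge_right _ _
  have haR : zpowers a ≤ normalizer (R : Set G) :=
    Core.le_normalizer_commutator (zpowers_le.2 ha) haT
  have hRT : ⁅R, T⁆ = R := Coprime.commutator_commutator_eq hTP hcT (Or.inr hsol)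
  have hPP := commutator_le_scal_comp h2 hc
  have h1 := commutator_commutator_le_kerOn (hP.to_le hRP) hk
    ((commutator_mono hRP hRP).trans hPP)
    (fun g hg => centralizer_le (SetLike.coe_subset_coe.2 hRP) (hexp g (hRP hg))) hTt htq hTR hRT
    hr hrq (fun e => hrB (e ▸ htB)) (haR (mem_zpowers a)) (haT (mem_zpowers a)) ho
    (hst.mono (hRP.trans hPc)) (hst.mono hTc) hac h0
  have hn' : ∀ X ≤ normalizer (R : Set G), X ≤ stab ρ c →
      X ≤ normalizer ((R ⊓ relC R (kerOn ρ c) : Subgroup G) : Set G) := fun X h1 h2 =>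
    Core.le_normalizer_inf h1 (le_normalizer_relC h1 (h2.trans (normalizer_kerOn hst)))
  have h3 : ⁅R, zpowers a⁆ ≤ R := Coprime.commutator_le_of_le_normalizer haR
  have h4 : T ≤ relC R (R ⊓ relC R (kerOn ρ c)) := by
    refine (Coprime.commutator_commutator_eq haS (Coprime.coprime_mono hcop le_rfl hSB)
      (Or.inl inferInstance)).ge.trans (commutator_le_relC hTR (hn' _ hTR hTc) (le_relC.2
        ⟨hn' _ haR (zpowers_le.2 hac), le_inf h3 (le_relC.2 ⟨h3.trans (hRP.trans (hPc.trans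
          (normalizer_kerOn hst))), ?_⟩)⟩))
    rwa [commutator_comm]
  have h5 : ⁅R, R⁆ ≤ kerOn ρ c :=
    (le_relC.1 (hRT.ge.trans ((le_relC.1 h4).2.trans inf_le_right))).2
  have hK := hPc.trans (normalizer_kerOn hst)
  have h6 : ⁅R, P ⊓ centralizer (T : Set G)⁆ ≤ kerOn ρ c := by
    refine Reg.three_subgroups hK (hTc.trans (normalizer_kerOn hst)) (inf_le_left.trans hK) ?_ ?_
    · rw [Coprime.commutator_eq_bot_iff_le_centralizer'.2 inf_le_right, commutator_bot_left]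
      exact bot_le
    · exact commutator_le.2 fun g hg x hx => commutator_mem_kerOn_of_mem_scal
        (hPP (commutator_mono inf_le_left le_rfl hg)) (hTc hx)
  have h7 : ⁅R, P⁆ ≤ kerOn ρ c := by
    rw [← Coprime.centralizer_sup_commutator hTP hcT (Or.inr hsol)]
    exact Reg.commutator_sup_right_le (inf_le_left.trans hK) (hRP.trans hK) h6 h5
  refine le_relC.2 ⟨hn _ hTP hTc, le_inf hRP fun g hg => (mem_scal_comp_iff hPk hc (hRP hg)).2
    fun x hx => ?_⟩
  rw [← commutatorElement_inv]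
  exact inv_mem (h7 (commutator_mem_commutator hg hx))

include hP hk h2 hr hrq ho ha in
/-- A good component fixed by `a` gives a robust vector. -/
theorem out_of_fixed (hrk : (r : k) ≠ 0) {c : Submodule k V} (hc : c ∈ comps ρ P)
    (hac : a ∈ stab ρ c) (hne : ¬ ⁅P, zpowers a⁆ ≤ kerOn ρ c) (h0 : c ⊓ fix ρ (zpowers a) ≠ ⊥)
    {y : G} (hy : y ∈ P) (hay : Commute a y) (hyc : y ∉ kerOn ρ c) : Out ρ a y P := by
  have hPk := card_ne_zero_of_isPGroup hP hk
  have hPc := isInv_iff_le_stab.1 (isInv_of_mem_comps hc)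
  obtain ⟨G', _, _, π, σ, h⟩ := exists_isFaithfulOn (isInv_stab (ρ := ρ) c)
  have h1 : ⁅P, zpowers a⁆ ≤ stab ρ c :=
    (Coprime.commutator_le_of_le_normalizer (zpowers_le.2 ha)).trans hPc
  have := Fact.mk hr
  refine h.out hac (hPc hy) hPc ha (out_of_mem h.inj (isPGroup_im π hP) hk
    (im_commutator π hPc hPc ▸ h.im_le_scal (commutator_le_scal_comp h2 hc)) ?_ hr hrq hrk
    (orderOf_eq_prime ?_ fun e => hne ?_) (mem_normalizer_im π ha) ?_ ?_ (mem_im π hy) ?_
    fun e => hyc (h.eq_one_iff.1 e))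
  · rintro _ ⟨⟨g, hg, rfl⟩, hg'⟩
    refine h.mem_scal_iff.2 ((mem_scal_comp_iff hPk hc hg).2 fun x hx => ?_)
    refine (h.eq_one_iff (g := ⁅(⟨x, hPc hx⟩ : stab ρ c), g⁆)).1 ?_
    rw [map_commutatorElement, commutatorElement_eq_one_iff_mul_comm]
    exact hg' _ (mem_im π hx)
  · rw [← map_pow, ← map_one π]
    exact congrArg π (Subtype.ext (by rw [← ho]; exact pow_orderOf_eq_one a))
  · rw [← h.im_eq_bot_iff h1, im_commutator π hPc (zpowers_le.2 hac), im_zpowers π hac, e,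
      zpowers_one_eq_bot, commutator_bot_right]
  · rwa [← im_zpowers π hac, ← im_commutator π hPc (zpowers_le.2 hac), Ne, h.im_eq_bot_iff h1]
  · rwa [← im_zpowers π hac, Ne, h.fix_eq_bot_iff (zpowers_le.2 hac)]
  · exact Commute.map (show Commute (⟨a, hac⟩ : stab ρ c) ⟨y, hPc hy⟩ from Subtype.ext hay.eq) π

end Step

/-- The group-theoretic form of robustness. -/
def RobG (a : G) (B L D : Subgroup G) : Prop :=
  ∃ g ∈ L, g ∉ ⁅L, L⁆ ∧ ∀ Y : Subgroup G, ⁅L, L⁆ ≤ Y → Y ≤ L → (D ≤ Y ∨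
    ∃ B' ≤ B, a ∈ normalizer (B' : Set G) ∧ ⁅L, B'⁆ ≤ Y ∧ ∀ b ∈ B, (∃ d ∈ D, b * d * b⁻¹ ∉ Y) →
      ∃ b' ∈ B', ∃ c ∈ B ⊓ centralizer (zpowers a : Set G), b = b' * c) → g ∈ Y

/-- The inductive step. -/
theorem out_of_robG (hρ : Function.Injective ρ) {q : ℕ} [hq : Fact q.Prime] {P : Subgroup G}
    (hP : IsPGroup q P) (hk : (q : k) ≠ 0) (h2 : ⁅P, P⁆ ≤ centralizer (P : Set G))
    (hexp : ∀ g ∈ P, g ^ q ∈ centralizer (P : Set G))
    (hZ : ⁅P, P⁆ = ⊥ ∨ P ⊓ centralizer (P : Set G) ≤ ⁅P, P⁆) {a : G} {r : ℕ} (hr : r.Prime)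
    (hrq : r ≠ q) (hrk : (r : k) ≠ 0) (ho : orderOf a = r) (ha : a ∈ normalizer (P : Set G))
    {B D : Subgroup G} (hBP : B ≤ normalizer (P : Set G)) (haB : a ∈ normalizer (B : Set G))
    (hqB : ¬ q ∣ Nat.card B) (hrB : ¬ r ∣ Nat.card B)
    (hD : D ≤ P ⊓ centralizer (zpowers a : Set G)) (h : RobG a B P D) :
    ∃ y ∈ D, Out ρ a y P := by
  have hPk := card_ne_zero_of_isPGroup hP hk
  have hrP := coprime_card_of_prime hr hrq hP
  have hcop : (Nat.card (zpowers a)).Coprime (Nat.card B) := by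
    rw [Nat.card_zpowers, ho]; exact (Nat.Prime.coprime_iff_not_dvd hr).2 hrB
  by_contra hall
  push Not at hall
  have hbad : ∀ c ∈ comps ρ P, ¬ D ≤ kerOn ρ c → a ∈ stab ρ c ∧
      (⁅P, zpowers a⁆ ≤ kerOn ρ c ∨ c ⊓ fix ρ (zpowers a) = ⊥) := by
    intro c hc hDc
    obtain ⟨y, hy, hyc⟩ := SetLike.not_le_iff_exists.1 hDc
    have hay : Commute a y := mem_centralizer_zpowers.1 (hD hy).2
    by_cases hac : a ∈ stab ρ c
    · refine ⟨hac, ?_⟩
      by_contra h1
      push Not at h1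
      exact hall y hy (out_of_fixed hP hk h2 hr hrq ho ha hrk hc hac h1.1 h1.2 (hD hy).1 hay hyc)
    · exact (hall y hy (out_of_moved hPk h2 hc hr ho hrP ha (le_normalizer (hD hy).1) hay
        (hrP.coprime_dvd_right (P.orderOf_dvd_natCard (hD hy).1))
        (le_centralizer_iff.1 h2 (hD hy).1) hac hyc)).elim
  obtain ⟨g, hg, hg', h⟩ := h
  have key : ∀ Y : Submodule k V → Subgroup G,
      (∀ c ∈ comps ρ P, ⁅P, P⁆ ≤ Y c ∧ kerOn ρ c ≤ Y c) →
      (∀ c x b, x ∈ Y (c.map (ρ b⁻¹)) → b * x * b⁻¹ ∈ Y c) →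
      (∀ c ∈ comps ρ P, a ∈ stab ρ c →
        (⁅P, zpowers a⁆ ≤ kerOn ρ c ∨ c ⊓ fix ρ (zpowers a) = ⊥) →
        ⁅P, ⁅B ⊓ stab ρ c, zpowers a⁆⁆ ≤ Y c) → ∀ c ∈ comps ρ P, g ∈ Y c := by
    intro Y hY1 hY2 hY3 c hc
    refine (h (P ⊓ Y c) (le_inf (commutator_le_self P) (hY1 c hc).1) inf_le_left ?_).2
    by_cases hDc : D ≤ kerOn ρ c
    · exact Or.inl (le_inf (hD.trans inf_le_left) (hDc.trans (hY1 c hc).2))
    obtain ⟨hac, h1⟩ := hbad c hc hDc
    have hn : zpowers a ≤ normalizer ((B ⊓ stab ρ c : Subgroup G) : Set G) :=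
      Core.le_normalizer_inf (zpowers_le.2 haB) ((zpowers_le.2 hac).trans le_normalizer)
    have h3 : ⁅B ⊓ stab ρ c, zpowers a⁆ ≤ B ⊓ stab ρ c := Coprime.commutator_le_of_le_normalizer hn
    have hcop' := Coprime.coprime_mono hcop le_rfl (inf_le_left : B ⊓ stab ρ c ≤ B)
    refine Or.inr ⟨⁅B ⊓ stab ρ c, zpowers a⁆, h3.trans inf_le_left,
      normalizer_commutator_ge_right _ _ (mem_zpowers a), le_inf
      (Coprime.commutator_le_of_le_normalizer (h3.trans (inf_le_left.trans hBP)))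
      (hY3 c hc hac h1), ?_⟩
    rintro b hb ⟨d, hd, hd'⟩
    have hc' := map_rho_mem_comps hc (inv_mem (hBP hb))
    have h4 := (hbad _ hc' fun e => hd' ⟨Coprime.conj_mem_of_le_normalizer hBP hb (hD hd).1,
      hY2 c d b ((hY1 _ hc').2 (e hd))⟩).1
    obtain ⟨n, hn', h5⟩ := Coprime.exists_mul_mem_centralizer hn hcop' (Or.inl inferInstance)
      (g := b⁻¹) fun x hx => by
        refine ⟨B.mul_mem (B.inv_mem (B.inv_mem hb))
          (Coprime.conj_mem_of_le_normalizer (zpowers_le.2 haB) hx (inv_mem hb)), ?_⟩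
        have h6 : b * x * b⁻¹ ∈ stab ρ c := by
          rw [mem_stab, map_rho_mul, map_rho_mul, mem_stab.1 (zpowers_le.2 h4 hx),
            map_rho_map_inv]
        simpa [mul_assoc] using mul_mem h6 (inv_mem (zpowers_le.2 hac hx))
    obtain ⟨b', hb', c', hc', e⟩ := Coprime.exists_mul_centralizer h3 le_rfl
      (Coprime.coprime_mono hcop' le_rfl h3) (Or.inl inferInstance) hn'
    refine ⟨b', hb', c' * (b⁻¹ * n)⁻¹, ⟨B.mul_mem hc'.1.1 (B.inv_mem (B.mul_mem (B.inv_mem hb) hn'.1)),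
      Subgroup.mul_mem _ hc'.2 (inv_mem h5)⟩, ?_⟩
    rw [← mul_assoc, ← e]; group
  have hker : ∀ x, (∀ c ∈ comps ρ P, x ∈ kerOn ρ c) → x = 1 := fun x hx => by
    by_contra h1
    obtain ⟨c, hc, h3⟩ := exists_comp_not_le_fix hPk hρ (R := zpowers x) (by simpa using h1)
    exact h3 (le_kerOn_iff.1 (zpowers_le.2 (hx c hc)))
  rcases hZ with hZ | hZ
  · refine hg' (hker g (key (kerOn ρ) (fun c _ => ⟨hZ ▸ bot_le, le_rfl⟩)
      (fun c x b hx => by simpa using mem_kerOn_map.1 hx) fun c hc hac _ => ?_) ▸ one_mem _)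
    have h3 : P ≤ scal ρ c := le_scal_of_mem_comps le_rfl
      (commutator_eq_bot_iff_le_centralizer.1 hZ) hc
    exact commutator_le.2 fun x hx b hb => commutator_mem_kerOn_of_mem_scal (h3 hx)
      ((commutator_mono inf_le_right (zpowers_le.2 hac)).trans (commutator_le_self _) hb)
  · have h3 := key (scal ρ) (fun c hc => ⟨commutator_le_scal_comp h2 hc, kerOn_le_scal c⟩)
      (fun c x b hx => by simpa using mem_scal_map_iff.1 hx) fun c hc hac h1 => by
        refine (le_relC.1 ?_).2.trans (inf_le_right : P ⊓ scal ρ c ≤ _)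
        have hn : ∀ X ≤ normalizer (P : Set G), X ≤ stab ρ c →
            X ≤ normalizer ((P ⊓ scal ρ c : Subgroup G) : Set G) := fun X h1 h2 =>
          Core.le_normalizer_inf h1 (h2.trans (normalizer_scal (isInv_stab c)))
        rcases h1 with h1 | h1
        · exact commutator_le_relC (inf_le_left.trans hBP)
            (hn _ (inf_le_left.trans hBP) inf_le_right) (le_relC.2
              ⟨hn _ (zpowers_le.2 ha) (zpowers_le.2 hac), le_inf
                (Coprime.commutator_le_of_le_normalizer (zpowers_le.2 ha))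
                (h1.trans (kerOn_le_scal c))⟩)
        · exact commutator_le_relC_of_fix_eq_bot hP hk h2 hexp hr hrq ho ha hc hac h1
            (inf_le_left.trans hBP) inf_le_right (Core.le_normalizer_inf (zpowers_le.2 haB)
              ((zpowers_le.2 hac).trans le_normalizer) (mem_zpowers a))
            (fun e => hqB (e.trans (card_dvd_of_le inf_le_left)))
            (fun e => hrB (e.trans (card_dvd_of_le inf_le_left)))
    refine hg' (hZ ⟨hg, fun x hx => commutatorElement_eq_one_iff_mul_comm.1 (hker _ fun c hc =>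
      (mem_scal_comp_iff hPk hc hg).1 (h3 c hc) x hx)⟩)

end Cfsg.Agent.Mod
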