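import Mathlib
import Cfsg.Agent.Lib.Mod.TurullStep
import Cfsg.Agent.Lib.Mod.TurullExc

/-! The first robust vector. -/

set_option autoImplicit false

namespace Cfsg.Agent.Mod

open Module Polynomial Subgroup
open scoped commutatorElement

universe u

variable {k V : Type*} [Field k] [AddCommGroup V] [Module k V]
  [IsAlgClosed k] [FiniteDimensional k V] {G : Type u} [Group G] [Finite G]
  {ρ : Representation k G V}

theorem exists_rob_of_fpf {P : Subgroup G} (hsol : Group.IsSolvable P)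
    (hP : (Nat.card P : k) ≠ 0) {a : G} {r : ℕ} (hr : r.Prime) (ho : orderOf a = r)
    (ha : a ∈ normalizer (P : Set G)) (hC : P ⊓ centralizer (zpowers a : Set G) = ⊥)
    (h0 : fix ρ P = ⊥) (hV : (⊤ : Submodule k V) ≠ ⊥) :
    ∃ d ∈ fix ρ (zpowers a), d ≠ 0 ∧ Rob ρ a P d := by
  have h1 := (isFreeOn_of_fpf' hsol hP (zpowers_le.2 ha) (fun h hh h1 g hg e => by
    rw [← mem_bot, ← hC, ← zpowers_eq_of_prime hr ho hh h1]
    exact ⟨hg, mem_centralizer_zpowers.2 e⟩) (isInv_top (ρ := ρ) P) (isInv_top _)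
    (by rw [h0, inf_bot_eq])).inf_fix_ne_bot (isInv_top _) hV
  obtain ⟨d, hd, hd0⟩ := (Submodule.ne_bot_iff _).1 h1
  refine ⟨d, hd.2, hd0, rob_of_cmt hP ?_ fun c hc => ?_⟩
  · have := (isCompl_fix_cmt (ρ := ρ) hP).sup_eq_top
    rw [h0, bot_sup_eq] at this
    rw [this]; trivial
  · rw [hC, mem_bot] at hc
    rw [hc, map_one]; rfl

theorem nres_subgroupOf {G : Type*} [Group G] [Finite G] {T L : Subgroup G} (h : T ≤ L) :
    nres (T.subgroupOf L) = (nres T).subgroupOf L := by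
  refine map_injective L.subtype_injective ?_
  rw [map_nres, map_subgroupOf_eq_of_le h, map_subgroupOf_eq_of_le ((nres_le T).trans h)]

theorem cmt_kerRep {k V : Type*} [Field k] [AddCommGroup V] [Module k V] {G : Type*} [Group G]
    (ρ : Representation k G V) (H : Subgroup G) :
    cmt (kerRep ρ) (H.map (QuotientGroup.mk' ρ.ker)) = cmt ρ H := by
  unfold cmt
  congr 1
  ext w
  constructor
  · rintro ⟨_, ⟨h, hh, rfl⟩, v, rfl⟩
    exact ⟨h, hh, v, rfl⟩
  · rintro ⟨h, hh, v, rfl⟩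
    exact ⟨_, ⟨h, hh, rfl⟩, v, rfl⟩

section Start

variable {q : ℕ} [hq : Fact q.Prime] {P : Subgroup G} (hP : IsPGroup q P) (hk : (q : k) ≠ 0)
  (h2 : ⁅P, P⁆ ≤ centralizer (P : Set G)) (hexp : ∀ g ∈ P, g ^ q ∈ centralizer (P : Set G))
  {a : G} {r : ℕ} (hr : r.Prime) (hrq : r ≠ q) (ho : orderOf a = r)
  (ha : a ∈ normalizer (P : Set G)) (hCa : P ⊓ centralizer (zpowers a : Set G) ≤ ⁅P, P⁆)

include hP hk h2 hexp hr hrq ho ha hCa in
theorem out_of_nres {c : Submodule k V} (hc : c ∈ comps ρ P) (hac : a ∈ stab ρ c) {t : ℕ}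
    [ht : Fact t.Prime] (htq : t ≠ q) (htr : t ≠ r) {T : Subgroup G}
    (hTa : T ≤ centralizer (zpowers a : Set G)) (hTP : T ≤ normalizer (P : Set G))
    (hTc : T ≤ stab ρ c) (hne : ¬ ⁅P, nres T⁆ ≤ scal ρ c)
    (hTt : ∀ y ∈ nres T, ∃ n, ∀ x ∈ P, ⁅x, y ^ t ^ n⁆ ∈ ⁅P, P⁆) : ∃ y ∈ nres T, Out ρ a y P := by
  have hPk := card_ne_zero_of_isPGroup hP hk
  have hPP := commutator_le_scal_comp h2 hc
  set L := normalizer (P : Set G) ⊓ stab ρ c
  have hPL : P ≤ L := le_inf le_normalizer (isInv_iff_le_stab.1 (isInv_of_mem_comps hc))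
  have hTL : T ≤ L := le_inf hTP hTc
  have haL : a ∈ L := ⟨ha, hac⟩
  obtain ⟨G', _, _, π, σ, h⟩ := exists_isFaithfulOn ((isInv_stab (ρ := ρ) c).mono
    (inf_le_right : L ≤ _))
  have := normal_im π h.surj (inf_le_left : L ≤ _)
  set R := im π P
  have hRR : ⁅R, R⁆ ≤ scal σ ⊤ := im_commutator π hPL hPL ▸ h.im_le_scal hPP
  have hcen := scal_top_le_center h.inj
  have hZ : R ⊓ centralizer (R : Set G') ≤ scal σ ⊤ := by
    rintro _ ⟨⟨g, hg, rfl⟩, hg'⟩
    refine h.mem_scal_iff.2 ((mem_scal_comp_iff hPk hc hg).2 fun x hx => ?_)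
    refine (h.eq_one_iff (g := ⁅(⟨x, hPL hx⟩ : L), g⁆)).1 ?_
    rw [map_commutatorElement, commutatorElement_eq_one_iff_mul_comm]
    exact hg' _ (mem_im π hx)
  have hRY : ⁅R, R⁆ ≤ R ⊓ centralizer (R : Set G') :=
    le_inf (commutator_le_self R) (hRR.trans (hcen.trans (center_le_centralizer _)))
  obtain ⟨W, _, _, _, τ, h3, h4, h5⟩ := exists_rep_section' (ZMod q) hRY (by
    rintro _ ⟨g, hg, rfl⟩
    rw [← map_pow]
    exact ⟨mem_im π (pow_mem hg q), mem_centralizer_im π (hexp g hg)⟩)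
  have h6 : ∀ g : L, τ (π g) = 1 ↔ ∀ x ∈ P, ⁅x, (g : G)⁆ ∈ scal ρ c := fun g => by
    rw [h5]
    constructor
    · intro e x hx
      refine (h.mem_scal_iff (g := ⁅(⟨x, hPL hx⟩ : L), g⁆)).1 (hZ ?_)
      rw [map_commutatorElement]
      exact e _ (mem_im π hx)
    · rintro e _ ⟨x, hx, rfl⟩
      rw [← map_commutatorElement]
      exact ⟨mem_im π (Coprime.commutator_le_of_le_normalizer le_rfl
        (commutator_mem_commutator hx g.2.1)),
        center_le_centralizer _ (hcen (h.mem_scal_iff.2 (e x hx)))⟩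
  have hfa : ∀ g ∈ P, ⁅g, a⁆ ∈ scal ρ c → g ∈ scal ρ c := fun g hg e =>
    mem_scal_of_commutator_mem (isInv_of_mem_comps hc) ha hac
      (ho ▸ coprime_card_of_prime hr hrq hP) (hCa.trans hPP) hac (mem_zpowers a) hg e
  have hpow : π ⟨a, haL⟩ ^ r = 1 := by
    rw [← map_pow, ← map_one π]
    exact congrArg π (Subtype.ext (by rw [← ho]; exact pow_orderOf_eq_one a))
  have hns : ¬ P ≤ scal ρ c := fun e => hne
    ((Coprime.commutator_le_of_le_normalizer ((nres_le T).trans hTP)).trans e)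
  have := Fact.mk hr
  have ho' : orderOf (π ⟨a, haL⟩) = r := orderOf_eq_prime hpow fun e => hns fun g hg =>
    hfa g hg ((h6 ⟨a, haL⟩).1 (by rw [e, map_one]) g hg)
  let ψ : L →* G' ⧸ τ.ker := (QuotientGroup.mk' τ.ker).comp π
  have hψ : ∀ g : L, ψ g = 1 ↔ τ (π g) = 1 := fun g => QuotientGroup.eq_one_iff _
  have hE : nres (im ψ T) = im ψ (nres T) := by rw [← map_nres, nres_subgroupOf hTL]
  have hEt : IsPGroup t (im ψ (nres T)) := by
    rintro ⟨_, y, hy, rfl⟩
    obtain ⟨n, hn⟩ := hTt y hy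
    refine ⟨n, Subtype.ext ?_⟩
    rw [SubgroupClass.coe_pow, ← map_pow, OneMemClass.coe_one, hψ, h6]
    exact fun x hx => hPP (hn x hx)
  have hE0 : im ψ (nres T) ≠ ⊥ := fun e => hne (commutator_le.2 fun x hx y hy =>
    (h6 ⟨y, hTL (nres_le T hy)⟩).1 ((hψ _).1 (mem_bot.1 (e ▸ mem_im ψ hy))) x hx)
  by_contra hall
  push Not at hall
  have key : ∀ e ∈ im ψ (nres T), orderOf e = t → t = 2 ∧
      q ^ finrank (ZMod q) (cmt (kerRep τ) (zpowers e)) = (2 * r - 1) ^ 2 := by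
    intro e he hoe
    obtain ⟨S, hS, hSt, hSe⟩ := exists_isPGroup_map_eq hEt le_rfl
    obtain ⟨y, hy, rfl⟩ := hSe.ge he
    obtain ⟨n, hn⟩ := hSt ⟨y, hy⟩
    have hn' : π y ^ t ^ n = 1 := by
      rw [← map_pow, show y ^ t ^ n = 1 from congrArg Subtype.val hn, map_one]
    have hcop : ∀ m : ℕ, (Nat.card (zpowers (π y ^ m))).Coprime (Nat.card R) := fun m => by
      rw [Nat.card_zpowers]
      exact ((coprime_card_of_prime ht.out htq (isPGroup_im π hP)).pow_left n).coprime_dvd_left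
        ((orderOf_pow_dvd m).trans (orderOf_dvd_of_pow_eq_one hn'))
    have h7 : τ (π y ^ t) = 1 := by
      rw [← map_pow, ← hψ, map_pow, ← hoe, pow_orderOf_eq_one]
    refine (out_or_exc h.inj (isPGroup_im π hP) hk hRR hZ hr hrq ho' (mem_normalizer_im π ha) ?_
      ht.out htq htr hn' (le_normalizer_of_normal (mem_top _)) ?_ ?_ ?_ ?_).elim
      (fun h8 => (hall y (hS hy) (h.out haL y.2 hPL ha h8)).elim) fun h8 => ⟨h8.1, ?_⟩
    · rintro _ ⟨⟨g, hg, rfl⟩, hg'⟩
      refine h.mem_scal_iff.2 (hfa g hg (kerOn_le_scal c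
        ((h.eq_one_iff (g := ⁅g, (⟨a, haL⟩ : L)⁆)).1 ?_)))
      rw [map_commutatorElement, commutatorElement_eq_one_iff_commute]
      exact (mem_centralizer_zpowers.1 hg').symm
    · exact Commute.map (show Commute (⟨a, haL⟩ : L) y from
        Subtype.ext (mem_centralizer_zpowers.1 (hTa (nres_le T (hS hy)))).eq) π
    · rw [← zpowers_le]
      refine Coprime.le_centralizer_of_commutator_le (N := R ⊓ centralizer (R : Set G'))
        (le_relC.1 (zpowers_le.2 ⟨le_normalizer_of_normal (mem_top _), (h5 _).1 h7⟩)).2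
        (le_centralizer_iff.1 (hZ.trans (hcen.trans (center_le_centralizer _))))
        ((hcop t).coprime_dvd_right (card_dvd_of_le inf_le_left))
    · intro e
      have : ψ y = 1 := (hψ y).2 ((h5 _).2 fun x hx => by
        rw [mem_bot.1 (e.le (commutator_mem_commutator hx (mem_zpowers _)))]; exact one_mem _)
      rw [this, orderOf_one] at hoe
      exact ht.out.one_lt.ne hoe
    · have := Submodule.nontrivial_iff_ne_bot.2 (ne_bot_of_mem_comps hc)
      exact top_ne_bot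
    · rw [show zpowers (ψ y) = (zpowers (π y)).map (QuotientGroup.mk' τ.ker) from
        (MonoidHom.map_zpowers (QuotientGroup.mk' τ.ker) (π y)).symm, cmt_kerRep, h3 _ ?_, ← h8.2, ← inf_relIndex_right,
        ← inf_relIndex_right (centralizer _), inf_right_comm,
        inf_of_le_right (commutator_le_left _ _), inf_comm]
      rw [Nat.card_zpowers, ← hq.out.coprime_iff_not_dvd]
      exact (((Nat.coprime_primes hq.out ht.out).2 htq.symm).pow_right n).coprime_dvd_right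
        (orderOf_dvd_of_pow_eq_one hn')
  obtain ⟨e, he, hoe⟩ := PGrp.exists_orderOf_eq_prime_of_ne_bot hEt hE0
  obtain rfl := (key e he hoe).1
  refine false_of_half_fermat (σ := kerRep τ) kerRep_injective (T := im ψ T) (a := ψ ⟨a, haL⟩) hr
    (by rw [← map_one (QuotientGroup.mk' τ.ker), ← hpow, map_pow]; rfl) ?_ ?_ (hE ▸ hEt)
    (hE ▸ hE0) htq.symm htr.symm fun y hy hoy => (key y (hE ▸ hy) hoy).2
  · rintro _ ⟨g, hg, rfl⟩
    rw [← im_zpowers ψ haL]
    exact mem_centralizer_im ψ (hTa hg)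
  · rw [eq_bot_iff, ← (h4 (zpowers (π ⟨a, haL⟩))).2]
    · exact fun v hv => mem_fix_zpowers.2 (mem_fix_zpowers (ρ := kerRep τ).1 hv)
    · rintro _ ⟨g, hg, rfl⟩ e
      refine ⟨mem_im π hg, center_le_centralizer _ (hcen (h.mem_scal_iff.2 (hfa g hg
        ((h.mem_scal_iff (g := ⁅g, (⟨a, haL⟩ : L)⁆)).1 (hZ ?_)))))⟩
      rw [map_commutatorElement]
      exact e _ (mem_zpowers _)

include hP hk h2 hexp hr hrq ho ha hCa in
theorem out_start (hρ : Function.Injective ρ) (hrk : (r : k) ≠ 0) (h0 : fix ρ P = ⊥)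
    (hV : (⊤ : Submodule k V) ≠ ⊥) {t : ℕ} [ht : Fact t.Prime] (htq : t ≠ q) (htr : t ≠ r)
    {S T₁ T₂ : Subgroup G} (hS : IsPGroup t S) (hST : S ≤ T₁)
    (hSa : S ≤ centralizer (zpowers a : Set G)) (hSP : S ≤ normalizer (P : Set G))
    (hPS : ⁅P, S⁆ = P) (hSZ : S ≤ centralizer ((⁅P, P⁆ : Subgroup G) : Set G))
    (hTa : T₂ ≤ centralizer (zpowers a : Set G)) (hTP : T₂ ≤ normalizer (P : Set G))
    (hCT : P ⊓ centralizer (zpowers a : Set G) ≤ normalizer (T₂ : Set G))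
    (hT : P ⊓ centralizer (zpowers a : Set G) ≤ T₂ ∨ T₁ = nres T₂)
    (hTt : ∀ y ∈ T₁, ∃ n, ∀ x ∈ P, ⁅x, y ^ t ^ n⁆ ∈ ⁅P, P⁆) :
    (∃ y ∈ T₁, Out ρ a y P) ∨ ∃ z ∈ P ⊓ T₂, Out ρ a z P := by
  have hPk := card_ne_zero_of_isPGroup hP hk
  have hsol := Coprime.isSolvable_of_isPGroup hP
  have hrP := coprime_card_of_prime hr hrq hP
  have hA := zpowers_le.2 ha
  have hcop : (Nat.card (zpowers a)).Coprime (Nat.card P) := by rwa [Nat.card_zpowers, ho]
  have hPc : ∀ c ∈ comps ρ P, ¬ P ≤ kerOn ρ c := fun c hc h =>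
    ne_bot_of_mem_comps hc (eq_bot_iff.2 (h0 ▸ le_kerOn_iff.1 h))
  have hst : ∀ c ∈ comps ρ P, P ≤ stab ρ c := fun c hc =>
    isInv_iff_le_stab.1 (isInv_of_mem_comps hc)
  by_cases hall : ∃ c ∈ comps ρ P, a ∉ stab ρ c
  · obtain ⟨c, hc, hac⟩ := hall
    obtain ⟨y, hy, hyc⟩ := SetLike.not_le_iff_exists.1 fun h : S ≤ kerOn ρ c => hPc c hc (by
      rw [← hPS, commutator_comm]
      exact (commutator_mono h le_rfl).trans
        (Coprime.commutator_le_of_le_normalizer (normalizer_kerOn (isInv_of_mem_comps hc))))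
    exact Or.inl ⟨y, hST hy, out_of_moved hPk h2 hc hr ho hrP ha (hSP hy)
      (mem_centralizer_zpowers.1 (hSa hy)) ((coprime_card_of_prime hr htr.symm hS).coprime_dvd_right
        (S.orderOf_dvd_natCard hy)) (hSZ hy) hac hyc⟩
  push Not at hall
  have hker : ∀ x, x ≠ 1 → ∃ c ∈ comps ρ P, x ∉ kerOn ρ c := fun x h1 => by
    obtain ⟨c, hc, h3⟩ := exists_comp_not_le_fix hPk hρ (R := zpowers x) (by simpa using h1)
    exact ⟨c, hc, fun e => h3 (le_kerOn_iff.1 (zpowers_le.2 e))⟩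
  have hPa : ⁅P, P⁆ ≤ centralizer (zpowers a : Set G) := fun z hz => by
    rw [mem_centralizer_zpowers, ← commutatorElement_eq_one_iff_commute, ← commutatorElement_inv,
      inv_eq_one]
    by_contra h1
    obtain ⟨c, hc, h3⟩ := hker _ h1
    exact h3 (commutator_mem_kerOn_of_mem_scal (commutator_le_scal_comp h2 hc hz) (hall c hc))
  have hPA : ⁅P, zpowers a⁆ = P := PGrp.eq_of_sup_map_frattini
    (Coprime.commutator_le_of_le_normalizer hA)
    ((Coprime.centralizer_sup_commutator hA hcop (Or.inr hsol)).ge.trans (sup_le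
      (hCa.trans ((PGrp.commutator_le_map_frattini hP).trans le_sup_right)) le_sup_left))
  have hns : ∀ c ∈ comps ρ P, ¬ P ≤ scal ρ c := fun c hc h =>
    hPc c hc (le_kerOn_of_le_stab h (zpowers_le.2 (hall c hc)) hPA)
  have hnab : ∀ c ∈ comps ρ P, ¬ ⁅P, P⁆ ≤ kerOn ρ c := fun c hc h => hns c hc fun g hg =>
    (mem_scal_comp_iff hPk hc hg).2 fun x hx => h (commutator_mem_commutator hx hg)
  have hstab : ∀ H ≤ normalizer (P : Set G), H ≤ centralizer (zpowers a : Set G) →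
      H ≤ centralizer ((⁅P, P⁆ : Subgroup G) : Set G) → ∀ c ∈ comps ρ P, H ≤ stab ρ c := by
    intro H h3 h4 h5 c hc x hx
    have h6 := le_normalizer_inf_scal hPk hc h3 (h5.trans
      ((centralizer_le (SetLike.coe_subset_coe.2 inf_le_left)).trans (centralizer_le_normalizer _)))
    have h7 : zpowers a ≤ normalizer ((P ⊓ scal ρ c : Subgroup G) : Set G) :=
      Core.le_normalizer_inf hA ((zpowers_le.2 (hall c hc)).trans (normalizer_scal (isInv_stab c)))
    have h8 : H ≤ normalizer ((⁅P ⊓ scal ρ c, zpowers a⁆ : Subgroup G) : Set G) :=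
      Core.le_normalizer_commutator h6 (h4.trans (centralizer_le_normalizer _))
    refine mem_stab_of_commutator_le hPk h2 hc (h3 hx) (le_trans ?_ (commutator_le.2
      fun g hg b hb => commutator_mem_kerOn_of_mem_scal hg.2 (zpowers_le.2 (hall c hc) hb) :
        ⁅P ⊓ scal ρ c, zpowers a⁆ ≤ _))
    refine (commutator_mono (Coprime.centralizer_sup_commutator h7
      (Coprime.coprime_mono hcop le_rfl inf_le_left) (Or.inl inferInstance)).ge le_rfl).trans
      (Reg.commutator_sup_left_le (inf_le_left.trans (normalizer_commutator_ge_left _ _))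
        le_normalizer ?_ (Coprime.commutator_le_of_le_normalizer ((zpowers_le.2 hx).trans h8)))
    rw [Coprime.commutator_eq_bot_iff_le_centralizer'.2 (((zpowers_le.2 hx).trans h5).trans
      (centralizer_le (SetLike.coe_subset_coe.2 ((inf_le_inf_right _ inf_le_left).trans hCa))))]
    exact bot_le
  have hfix : ∀ c ∈ comps ρ P, c ⊓ fix ρ (zpowers a) ≠ ⊥ := fun c hc e => hnab c hc (by
    have := commutator_commutator_le_kerOn hP hk (commutator_le_scal_comp h2 hc) hexp hS htq hSP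
      hPS hr hrq htr.symm ha (centralizer_le_normalizer _ (le_centralizer_iff.1 hSa
        (mem_zpowers a))) ho (isInv_of_mem_comps hc)
      (isInv_iff_le_stab.2 (hstab S hSP hSa hSZ c hc)) (hall c hc) e
    rwa [hPA] at this)
  by_cases h3 : ⁅P, P⁆ ⊓ T₂ = ⊥
  · obtain ⟨U, -, hU⟩ := (isInv_top (ρ := ρ) P).exists_isIrr_le hV
    have hc := hU.hcomp_mem_comps
    have h4 : ⁅P, P⁆ ≤ P ⊓ centralizer (zpowers a : Set G) := le_inf (commutator_le_self P) hPa
    rcases hT with hT | rfl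
    · rw [inf_eq_left.2 (h4.trans hT)] at h3
      exact (hnab _ hc (h3 ▸ bot_le)).elim
    refine Or.inl (out_of_nres hP hk h2 hexp hr hrq ho ha hCa hc (hall _ hc) htq htr hTa hTP
      (hstab _ hTP hTa ?_ _ hc) (fun e => hns _ hc ?_) hTt)
    · rw [← Coprime.commutator_eq_bot_iff_le_centralizer', eq_bot_iff, ← h3]
      refine le_inf (Coprime.commutator_le_of_le_normalizer
        (Core.le_normalizer_commutator hTP hTP)) ?_
      rw [commutator_comm]
      exact Coprime.commutator_le_of_le_normalizer (h4.trans hCT)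
    · exact hPS.ge.trans ((commutator_mono le_rfl hST).trans e)
  · obtain ⟨⟨z, hz⟩, hz1⟩ := (ne_bot_iff_exists_ne_one).1 h3
    obtain ⟨c, hc, hzc⟩ := hker z fun e => hz1 (Subtype.ext e)
    exact Or.inr ⟨z, ⟨commutator_le_self P hz.1, hz.2⟩, out_of_fixed hP hk h2 hr hrq ho ha hrk hc
      (hall c hc) (by rw [hPA]; exact hPc c hc) (hfix c hc) (commutator_le_self P hz.1)
      (mem_centralizer_zpowers.1 (hPa hz.1)) hzc⟩

end Start

end Cfsg.Agent.Mod
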