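import Mathlib
import Cfsg.Agent.Lib.Mod.TurullStart
import Cfsg.Agent.Lib.Mod.TurullGrp

/-! Turull's theorem for an automorphism of prime order: `f(G) ≤ f(C_G(a)) + 2`. -/

set_option autoImplicit false

namespace Cfsg.Agent.Mod

open Module Subgroup
open scoped commutatorElement

universe u

section Sec

variable {K Γ W : Type*} [Field K] [Group Γ] [AddCommGroup W] [Module K W]

theorem IsLin.span_inf [Finite Γ] [FiniteDimensional K W] {p : ℕ} [hp : Fact p.Prime]
    {V : Subgroup Γ} {ρ : Representation K Γ W} {ι : Γ → W} (h : IsLin p V ρ ι)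
    (hV : IsMulCommutative V) {A B : Subgroup Γ} (hA : A ≤ V) (hB : B ≤ V) :
    Submodule.span K (ι '' A) ⊓ Submodule.span K (ι '' B) ≤
      Submodule.span K (ι '' (A ⊓ B : Subgroup Γ)) := by
  have hn : A ≤ normalizer (B : Set Γ) := le_trans (show A ≤ centralizer (B : Set Γ) from
    fun x hx y hy => Core.mul_comm_of_mem_of_isMulCommutative hV (hB hy) (hA hx))
    (centralizer_le_normalizer _)
  have h1 : Submodule.span K (ι '' (A ⊔ B : Subgroup Γ)) =
      Submodule.span K (ι '' A) ⊔ Submodule.span K (ι '' B) := by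
    refine le_antisymm (Submodule.span_le.2 ?_) (sup_le
      (Submodule.span_mono (Set.image_mono (SetLike.coe_subset_coe.2 le_sup_left)))
      (Submodule.span_mono (Set.image_mono (SetLike.coe_subset_coe.2 le_sup_right))))
    rintro _ ⟨x, hx, rfl⟩
    obtain ⟨a, ha, b, hb, rfl⟩ := (Core.mem_sup_of_le_normalizer hn).1 hx
    rw [h.map_mul a (hA ha) b (hB hb)]
    exact Submodule.add_mem_sup (Submodule.subset_span ⟨a, ha, rfl⟩)
      (Submodule.subset_span ⟨b, hb, rfl⟩)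
  have h2 := Core.card_sup_mul_card_inf_of_le_normalizer hn
  rw [h.card_span _ (sup_le hA hB), h.card_span _ (inf_le_left.trans hA), h.card_span _ hA,
    h.card_span _ hB, ← pow_add, ← pow_add, h1,
    ← Submodule.finrank_sup_add_finrank_inf_eq (Submodule.span K (ι '' A))] at h2
  refine (Submodule.eq_of_le_of_finrank_eq (le_inf
    (Submodule.span_mono (Set.image_mono (SetLike.coe_subset_coe.2 inf_le_left)))
    (Submodule.span_mono (Set.image_mono (SetLike.coe_subset_coe.2 inf_le_right)))) ?_).ge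
  exact add_left_cancel (Nat.pow_right_injective hp.out.two_le h2)

/-- `ρ` linearizes the action of `Γ` on the chief factor `L / ⁅L, L⁆`. -/
structure IsSec (L : Subgroup Γ) (ρ : Representation K Γ W) (ι : Γ → W) : Prop where
  comm : ∀ g, ∀ x ∈ L, ι ⁅g, x⁆ = ρ g (ι x) - ι x
  conj : ∀ g, ∀ x ∈ L, ρ g (ι x) = ι (g * x * g⁻¹)
  span_top : Submodule.span K (ι '' L) = ⊤
  span_bot : Submodule.span K (ι '' (⁅L, L⁆ : Subgroup Γ)) = ⊥
  span_inf : ∀ A B : Subgroup Γ, ⁅L, L⁆ ≤ A → A ≤ L → ⁅L, L⁆ ≤ B → B ≤ L →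
    Submodule.span K (ι '' A) ⊓ Submodule.span K (ι '' B) ≤
      Submodule.span K (ι '' (A ⊓ B : Subgroup Γ))
  fix_le : ∀ a : Γ, (orderOf a).Coprime (Nat.card L) → fix ρ (zpowers a) ≤
    Submodule.span K (ι '' (L ⊓ centralizer (zpowers a : Set Γ) : Subgroup Γ))
  irr : ∀ N : Subgroup Γ, N.Normal → fix ρ N = ⊥ ∨ N ≤ ρ.ker
  ker : ∀ g, ρ g = 1 ↔ ∀ x ∈ L, ⁅x, g⁆ ∈ ⁅L, L⁆
  ne_bot : (⊤ : Submodule K W) ≠ ⊥

theorem exists_isSec {Γ : Type u} [Group Γ] [Finite Γ] {s : ℕ} [hs : Fact s.Prime] (K : Type)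
    [Field K] [CharP K s] {L : Subgroup Γ} (hL : Layer s L) :
    ∃ (W : Type u) (_ : AddCommGroup W) (_ : Module K W) (_ : FiniteDimensional K W)
      (ρ : Representation K Γ W) (ι : Γ → W), IsSec L ρ ι := by
  have := hL.chief.2.1
  let π := QuotientGroup.mk' ⁅L, L⁆
  have hπ : Function.Surjective π := QuotientGroup.mk'_surjective _
  have hV := Core.isMinNormal_map_of_isChiefFactor hL.chief
  have := hV.normal
  have hE := hV.isElementaryAbelian_of_isPGroup (hL.pgrp.map _)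
  obtain ⟨W, _, _, _, ρ, ι, h⟩ := exists_isLin K hE
  have him : ∀ A : Subgroup Γ, (ι ∘ π) '' A = ι '' (A.map π : Subgroup _) := fun A => by
    rw [Set.image_comp]; rfl
  have hfix : ∀ H : Subgroup Γ, fix (ρ.comp π) H = fix ρ (H.map π) := fun H => by
    ext v
    simp only [mem_fix]
    exact ⟨fun h _ ⟨a, ha, e⟩ => e ▸ h a ha, fun h a ha => h _ ⟨a, ha, rfl⟩⟩
  refine ⟨W, _, _, inferInstance, ρ.comp π, ι ∘ π, fun g x hx => ?_, fun g x hx => ?_,
    by rw [him]; exact h.span_top, ?_, fun A B hA hA' hB hB' => ?_, fun a ha => ?_,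
    fun N _ => ?_, fun g => ?_, ?_⟩
  · simpa using h.commutator (π g) (mem_map_of_mem π hx)
  · simpa using h.conj (π g) _ (mem_map_of_mem π hx)
  · rw [him, (Core.map_mk_eq_bot_iff _ _).2 le_rfl, Submodule.span_eq_bot]
    rintro _ ⟨x, hx, rfl⟩
    rw [mem_bot.1 hx, h.map_one]
  · rw [him, him, him]
    refine (h.span_inf hE.1 (map_mono hA') (map_mono hB')).trans
      (Submodule.span_mono (Set.image_mono ?_))
    rintro _ ⟨⟨x, hx, rfl⟩, y, hy, e⟩
    refine ⟨x, ⟨hx, ?_⟩, rfl⟩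
    simpa using B.mul_mem hy (hB (QuotientGroup.eq.1 e))
  · rw [him, hfix, h.fix_eq, Coprime.map_inf_centralizer_eq π le_normalizer_of_normal
      (by rw [Nat.card_zpowers]; exact ha.coprime_dvd_right (card_dvd_of_le inf_le_left))
      (Or.inl inferInstance)]
  · have : (N.map π).Normal := Normal.map inferInstance π hπ
    rw [hfix, h.fix_eq_bot_iff]
    refine (hV.inf_eq_bot_or_le (centralizer ((N.map π : Subgroup _) : Set _))).imp_right
      fun e g hg => ?_
    exact h.eq_one_iff.2 (le_centralizer_iff.1 e (mem_map_of_mem π hg))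
  · refine h.eq_one_iff.trans ⟨fun h x hx => (QuotientGroup.eq_one_iff _).1 ?_, fun h => ?_⟩
    · change π _ = 1
      rw [map_commutatorElement, commutatorElement_eq_one_iff_mul_comm]
      exact h _ ⟨x, hx, rfl⟩
    · rintro _ ⟨x, hx, rfl⟩
      rw [← commutatorElement_eq_one_iff_mul_comm, ← map_commutatorElement]
      exact (QuotientGroup.eq_one_iff _).2 (h x hx)
  · have := h.nontrivial_iff.2 hV.ne_bot
    exact top_ne_bot

variable {L : Subgroup Γ} {ρ : Representation K Γ W} {ι : Γ → W}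

theorem IsSec.robG [Finite Γ] (h : IsSec L ρ ι) {a : Γ} {B D : Subgroup Γ} (hD : D ≤ L) {d : W}
    (hd0 : d ≠ 0) (hd : d ∈ Submodule.span K (ι '' D)) (hr : Rob ρ a B d) : RobG a B L D := by
  obtain ⟨Y₀, -, ⟨h1, h2, h3⟩, hmin⟩ := Core.exists_minimal_le
    (P := fun Y => ⁅L, L⁆ ≤ Y ∧ Y ≤ L ∧ d ∈ Submodule.span K (ι '' Y)) (H := L)
    ⟨commutator_le_self L, le_rfl, h.span_top ▸ Submodule.mem_top⟩
  obtain ⟨g, hg, hg'⟩ := SetLike.not_le_iff_exists.1 fun e : Y₀ ≤ ⁅L, L⁆ => hd0 (by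
    rwa [le_antisymm e h1, h.span_bot] at h3)
  refine ⟨g, h2 hg, hg', fun Y hY hY' hY'' => ?_⟩
  suffices d ∈ Submodule.span K (ι '' Y) from (inf_eq_left.1 (hmin _ ⟨le_inf h1 hY,
    inf_le_left.trans h2, h.span_inf _ _ h1 h2 hY hY' ⟨h3, this⟩⟩ inf_le_left)) hg
  rcases hY'' with h4 | ⟨B', hB', ha, h4, h5⟩
  · exact Submodule.span_mono (Set.image_mono h4) hd
  by_contra h6
  obtain ⟨l, hl, hl'⟩ := Submodule.exists_dual_map_eq_bot_of_notMem h6 inferInstance
  have hl'' : ∀ x ∈ Y, l (ι x) = 0 := fun x hx => (Submodule.mem_bot K).1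
    (hl' ▸ Submodule.mem_map_of_mem (Submodule.subset_span ⟨x, hx, rfl⟩))
  refine hl (hr B' hB' ha l (fun b hb v => ?_) fun b hb h7 => h5 b hb ?_)
  · refine LinearMap.congr_fun (LinearMap.ext_on h.span_top (f := l.comp (ρ b)) (g := l) ?_) v
    rintro _ ⟨x, hx, rfl⟩
    rw [LinearMap.comp_apply, ← sub_eq_zero, ← map_sub, ← h.comm b x hx, ← commutatorElement_inv]
    exact hl'' _ (inv_mem (h4 (commutator_mem_commutator hx hb)))
  · by_contra h8
    push Not at h8
    refine h7 (Submodule.span_le (p := LinearMap.ker (l.comp (ρ b))).2 ?_ hd)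
    rintro _ ⟨x, hx, rfl⟩
    rw [SetLike.mem_coe, LinearMap.mem_ker, LinearMap.comp_apply, h.conj b x (hD hx)]
    exact hl'' _ (h8 x hx)

theorem IsSec.sub_mem_span (h : IsSec L ρ ι) {a y : Γ} (ha : (orderOf a).Coprime (Nat.card L))
    {D : Subgroup Γ} (hD : ∀ x ∈ L ⊓ centralizer (zpowers a : Set Γ), ⁅y, x⁆ ∈ D) {u : W}
    (hu : u ∈ fix ρ (zpowers a)) : ρ y u - u ∈ Submodule.span K (ι '' D) := by
  refine Submodule.span_le (p := (Submodule.span K (ι '' D)).comap (ρ y - 1)).2 ?_ (h.fix_le a ha hu)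
  rintro _ ⟨x, hx, rfl⟩
  rw [SetLike.mem_coe, Submodule.mem_comap, LinearMap.sub_apply, Module.End.one_apply,
    ← h.comm y x hx.1]
  exact Submodule.subset_span ⟨_, hD x hx, rfl⟩

end Sec

variable {Γ Γ' : Type*} [Group Γ] [Group Γ'] [Finite Γ] {r : ℕ} {G : Subgroup Γ} {a : Γ}

theorem Ctx.exists_lift [Finite Γ'] (hc : Ctx r G a) (hr : r.Prime) (π : Γ →* Γ') {q : ℕ} [Fact q.Prime]
    {B : Subgroup Γ'} (hB : B ≤ G.map π) (hq : IsPGroup q B)
    (ha : π a ∈ normalizer (B : Set Γ')) :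
    ∃ R ≤ G, IsPGroup q R ∧ a ∈ normalizer (R : Set Γ) ∧ R.map π = B := by
  have := hc.normal
  obtain ⟨R, hR, haR⟩ := Coprime.exists_invariant_sylow q (A := zpowers a) (G := G ⊓ B.comap π)
    (Core.le_normalizer_inf le_normalizer_of_normal (zpowers_le.2 (le_normalizer_comap π ha)))
    (hc.coprime hr inf_le_left) (Or.inl inferInstance)
  have e : (G ⊓ B.comap π).map π = B := by
    refine le_antisymm (map_le_iff_le_comap.2 inf_le_right) fun x hx => ?_
    obtain ⟨g, hg, rfl⟩ := hB hx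
    exact ⟨g, ⟨hg, hx⟩, rfl⟩
  have h1 := hR.map π
  rw [e] at h1
  refine ⟨R, hR.1.trans inf_le_left, hR.2.1, haR (mem_zpowers a), le_antisymm h1.1 ?_⟩
  by_contra h2
  exact h1.2.2 (PGrp.dvd_relIndex_of_not_le hq h2)

theorem Ctx.map_inf_centralizer (hc : Ctx r G a) (hr : r.Prime) (π : Γ →* Γ') :
    (G ⊓ centralizer (zpowers a : Set Γ)).map π =
      G.map π ⊓ centralizer (zpowers (π a) : Set Γ') := by
  have := hc.normal
  rw [Coprime.map_inf_centralizer_eq π le_normalizer_of_normal (hc.coprime hr inf_le_left)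
    (Or.inl inferInstance), MonoidHom.map_zpowers]

theorem Ctx.sup_commutator (hc : Ctx r G a) (hr : r.Prime) :
    G ⊓ centralizer (zpowers a : Set Γ) ⊔ ⁅G, zpowers a⁆ = G :=
  have := hc.normal
  Coprime.centralizer_sup_commutator le_normalizer_of_normal (hc.coprime hr le_rfl)
    (Or.inl inferInstance)

omit [Finite Γ] in
theorem Ctx.mem_normalizer_inf (hc : Ctx r G a) :
    a ∈ normalizer ((G ⊓ centralizer (zpowers a : Set Γ) : Subgroup Γ) : Set Γ) :=
  have := hc.normal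
  Core.le_normalizer_inf le_normalizer_of_normal le_normalizer
    (mem_centralizer_zpowers.2 (Commute.refl a))

theorem Layer.le_or_le {s : ℕ} [Fact s.Prime] {L : Subgroup Γ} (hL : Layer s L) (hc : Ctx r G a)
    (hr : r.Prime) (h : ⁅L, ⁅G, zpowers a⁆⁆ ≤ ⁅L, L⁆) :
    L ⊓ centralizer (zpowers a : Set Γ) ≤ ⁅L, L⁆ ∨ L ≤ centralizer (zpowers a : Set Γ) := by
  have := hL.chief.2.1
  have h1 : L ⊓ centralizer (zpowers a : Set Γ) ⊔ ⁅L, L⁆ ≤ L :=
    sup_le inf_le_left (commutator_le_self L)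
  have h2 : ∀ X ≤ centralizer (zpowers a : Set Γ),
      X ≤ normalizer ((L ⊓ centralizer (zpowers a : Set Γ) ⊔ ⁅L, L⁆ : Subgroup Γ) : Set Γ) :=
    fun X hX => Core.le_normalizer_sup (Core.le_normalizer_inf le_normalizer_of_normal
      (hX.trans le_normalizer)) le_normalizer_of_normal
  rcases hL.chief.2.2.2 _ (hc.normal_of ((hc.sup_commutator hr).ge.trans (sup_le
    (h2 _ inf_le_right) (Coprime.le_normalizer_of_commutator_le h1 (h.trans le_sup_right))))
    (h2 _ le_rfl (mem_centralizer_zpowers.2 (Commute.refl a)))) le_sup_right h1 with h3 | h3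
  · exact Or.inl (le_sup_left.trans h3.le)
  · exact Or.inr (inf_eq_left.1 (PGrp.eq_of_sup_map_frattini inf_le_left
      (h3.ge.trans (sup_le_sup_left (PGrp.commutator_le_map_frattini hL.pgrp) _))))

theorem Layer.ne {s : ℕ} [Fact s.Prime] {L : Subgroup Γ} (hL : Layer s L) {X : Subgroup Γ}
    (hX : L ≤ X) {t : ℕ} (ht : ¬ t ∣ Nat.card X) : t ≠ s := by
  rintro rfl
  exact hL.chief.1.ne_bot (eq_bot_of_isPGroup_of_not_dvd hL.pgrp hX ht)

theorem Layer.exists_quotient {Γ : Type u} [Group Γ] {s : ℕ} {L : Subgroup Γ} (hL : Layer s L) :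
    ∃ (N : Subgroup Γ) (_ : N.Normal), ∀ g, QuotientGroup.mk' N g = 1 ↔
      ∀ x ∈ L, ⁅x, g⁆ ∈ ⁅L, L⁆ := by
  have := hL.chief.2.1
  have : (relC L ⁅L, L⁆).Normal := Core.normal_iff_top_le_normalizer.2
    (le_normalizer_relC le_normalizer_of_normal le_normalizer_of_normal)
  exact ⟨relC L ⁅L, L⁆, this, fun g => (QuotientGroup.eq_one_iff g).trans
    (mem_relC.trans (and_iff_right (le_normalizer_of_normal (mem_top g))))⟩

theorem Ctx.map_eq (hc : Ctx r G a) (hr : r.Prime) {L : Subgroup Γ} {π : Γ →* Γ'}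
    (hker : ∀ g, π g = 1 ↔ ∀ x ∈ L, ⁅x, g⁆ ∈ ⁅L, L⁆) (h : ⁅L, ⁅G, zpowers a⁆⁆ ≤ ⁅L, L⁆) :
    (G ⊓ centralizer (zpowers a : Set Γ)).map π = G.map π := by
  conv_rhs => rw [← hc.sup_commutator hr, Subgroup.map_sup, (map_eq_bot_iff_of_ker hker).2 h,
    sup_bot_eq]

/-- The three possible configurations. -/
def State (G : Subgroup Γ) (a : Γ) (m : ℕ) : Prop :=
  G ≤ centralizer (zpowers a : Set Γ) ∨
    (lns G m ⊓ centralizer (zpowers a : Set Γ) ≤ ⁅lns G m, lns G m⁆ ∧
      ⁅lns G m, ⁅G, zpowers a⁆⁆ ≤ ⁅lns G m, lns G m⁆) ∨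
    ∃ B ≤ G, a ∈ normalizer (B : Set Γ) ∧ (Nat.card B).Coprime (Nat.card (lns G m)) ∧
      RobG a B (lns G m) (lns G m ⊓ lns (G ⊓ centralizer (zpowers a : Set Γ)) (m - 2))

theorem out_of_state {Γ : Type u} [Group Γ] [Finite Γ] {G : Subgroup Γ} {a : Γ} {k V : Type*}
    [Field k] [AddCommGroup V] [Module k V] [IsAlgClosed k] [FiniteDimensional k V]
    {ρ : Representation k Γ V} (hρ : Function.Injective ρ) (hc : Ctx r G a) (hr : r.Prime)
    {m : ℕ} (h : SubMin G a (m + 1)) {q : ℕ} [hq : Fact q.Prime] (hP : Layer q (lns G (m + 1)))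
    (hS : ∀ t, t.Prime → t ≠ q → ∀ S ≤ lns G m, IsPGroup t S →
      S ≤ centralizer ((⁅lns G (m + 1), lns G (m + 1)⁆ : Subgroup Γ) : Set Γ))
    (hqk : (q : k) ≠ 0) (hrk : (r : k) ≠ 0) (ho : orderOf a = r)
    (h0 : fix ρ (lns G (m + 1)) = ⊥) (hV : (⊤ : Submodule k V) ≠ ⊥)
    (h1 : lns G (m + 1) ⊓ centralizer (zpowers a : Set Γ) ≤ ⁅lns G (m + 1), lns G (m + 1)⁆)
    (h2 : ⁅lns G (m + 1), ⁅G, zpowers a⁆⁆ ≤ ⁅lns G (m + 1), lns G (m + 1)⁆) :
    (∃ y ∈ lns (G ⊓ centralizer (zpowers a : Set Γ)) m, Out ρ a y (lns G (m + 1))) ∨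
      ∃ z ∈ lns G (m + 1) ⊓ lns (G ⊓ centralizer (zpowers a : Set Γ)) (m - 1),
        Out ρ a z (lns G (m + 1)) := by
  have := hc.normal
  set P := lns G (m + 1) with hPe
  set C := G ⊓ centralizer (zpowers a : Set Γ)
  have hPG : P ≤ G := lns_le G _
  obtain ⟨N, _, hker⟩ := hP.exists_quotient
  set π := QuotientGroup.mk' N
  have hπ : Function.Surjective π := QuotientGroup.mk'_surjective N
  have hc' := hc.map hπ
  obtain ⟨t, ht, hT, -⟩ := (h.map hP hπ hker hc rfl).layer hc' hr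
  have := Fact.mk ht
  have e : (lns C m).map π = lns (G.map π) m := by rw [map_lns, hc.map_eq hr hker h2]
  obtain ⟨S, hSC, hSt, hSe⟩ := exists_isPGroup_map_eq hT.pgrp e.ge
  have htq := (hT.ne le_rfl (not_dvd_card_lns_map hP hπ hker hc rfl)).symm
  have hC : ∀ j, lns C j ≤ centralizer (zpowers a : Set Γ) := fun j => (lns_le C j).trans inf_le_right
  refine out_start hP.pgrp hqk hP.cls (fun g hg => hP.cls (hP.pow_mem hg)) hr
    (hP.ne hPG hc.cop) ho (le_normalizer_of_normal (mem_top a)) h1 hρ hrk h0 hV htq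
    (hT.ne (lns_le _ _) hc'.cop).symm hSt hSC (hSC.trans (hC m)) le_normalizer_of_normal ?_
    (hS t ht htq S (hSC.trans (lns_mono inf_le_left m)) hSt) (hC _) le_normalizer_of_normal
    ((inf_le_inf_right _ hPG).trans (le_normalizer.trans (normalizer_le_normalizer_lns C _))) ?_
    fun y hy => ?_
  · have h3 : ⁅P, P⁆ ≤ ⁅P, S⁆ ⊔ (frattini P).map P.subtype :=
      (PGrp.commutator_le_map_frattini hP.pgrp).trans le_sup_right
    have h4 : ⁅P, π.ker⁆ ≤ ⁅P, P⁆ := (map_eq_bot_iff_of_ker hker).1 (map_ker_self π)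
    have h5 : ⁅P, S⁆ ⊔ ⁅P, P⁆ ≤ P := sup_le (commutator_le_left _ _) (commutator_le_self P)
    refine PGrp.eq_of_sup_map_frattini (commutator_le_left _ _) ((commutator_nres _).ge.trans
      (le_trans ?_ (sup_le le_sup_left h3)))
    refine (commutator_mono le_rfl (?_ : lns G m ≤ S ⊔ π.ker)).trans (Reg.commutator_sup_right_le
      (Core.le_normalizer_sup (normalizer_commutator_ge_right _ _) le_normalizer_of_normal)
      (Coprime.le_normalizer_of_commutator_le h5 (h4.trans le_sup_right)) le_sup_left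
      (h4.trans le_sup_right))
    rw [← comap_map_eq, hSe, ← map_lns]
    exact le_comap_map _ _
  · rcases m with _ | m
    · exact Or.inl (inf_le_inf_right _ hPG)
    · exact Or.inr rfl
  · obtain ⟨n, hn⟩ := hT.pgrp ⟨π y, e ▸ mem_map_of_mem π hy⟩
    exact ⟨n, (hker _).1 (by rw [map_pow]; exact congrArg Subtype.val hn)⟩

theorem state {r : ℕ} (hr : r.Prime) (m : ℕ) : ∀ {Γ : Type u} [Group Γ] [Finite Γ]
    {G : Subgroup Γ} {a : Γ}, Ctx r G a → SubMin G a m → State G a m := by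
  induction m with
  | zero =>
    intro Γ _ _ G a hc h
    have := hc.normal
    by_cases h1 : G ≤ centralizer (zpowers a : Set Γ)
    · exact Or.inl h1
    · refine Or.inr (Or.inl ⟨le_trans (h.2 _ (inf_lt_left.2 h1) ?_).le bot_le,
        commutator_mono le_rfl (commutator_le_left _ _)⟩)
      exact hc.mem_normalizer_inf
  | succ k ih =>
    intro Γ _ _ G a hc h
    have := hc.normal
    obtain ⟨s, hs, hL, -⟩ := h.layer hc hr
    have := Fact.mk hs
    set L := lns G (k + 1)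
    set C := G ⊓ centralizer (zpowers a : Set Γ)
    have hLG : L ≤ G := lns_le G _
    obtain ⟨W, _, _, _, ρ, ι, hρ⟩ := exists_isSec (AlgebraicClosure (ZMod s)) hL
    set π := QuotientGroup.mk' ρ.ker
    have hπ : Function.Surjective π := QuotientGroup.mk'_surjective _
    have hker : ∀ g, π g = 1 ↔ ∀ x ∈ L, ⁅x, g⁆ ∈ ⁅L, L⁆ := fun g =>
      (QuotientGroup.eq_one_iff g).trans (hρ.ker g)
    have hc' := hc.map hπ
    have h' := h.map hL hπ hker hc rfl
    have hCe := hc.map_inf_centralizer hr π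
    by_cases h1 : G.map π ≤ centralizer (zpowers (π a) : Set _)
    · have h2 : ⁅L, ⁅G, zpowers a⁆⁆ ≤ ⁅L, L⁆ := by
        rw [← map_eq_bot_iff_of_ker hker, map_commutator, MonoidHom.map_zpowers,
          commutator_eq_bot_iff_le_centralizer]
        exact h1
      rcases hL.le_or_le hc hr h2 with h3 | h3
      · exact Or.inr (Or.inl ⟨h3, h2⟩)
      refine Or.inl (by_contra fun h4 => h'.1 ?_)
      rw [← inf_eq_left.2 h1, ← hCe]
      refine lns_map_eq_bot hL hπ hker hc rfl (le_inf hLG h3) inf_le_left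
        (h.2 _ (inf_lt_left.2 h4) ?_)
      exact hc.mem_normalizer_inf
    have := hc'.normal
    obtain ⟨q, hq, hP, hS⟩ := h'.layer hc' hr
    have := Fact.mk hq
    have := Fact.mk hr
    set P := lns (G.map π) k
    have hPG : P ≤ G.map π := lns_le _ _
    have hsq := hP.ne le_rfl (not_dvd_card_lns_map hL hπ hker hc rfl)
    have hne : ∀ t, t.Prime → t ≠ s → (t : AlgebraicClosure (ZMod s)) ≠ 0 := fun t ht h2 e =>
      h2 ((Nat.prime_dvd_prime_iff_eq hs ht).1 ((CharP.cast_eq_zero_iff _ s t).1 e)).symm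
    have hqk := hne q hq hsq.symm
    have hrk := hne r hr (hL.ne hLG hc.cop)
    have ho : orderOf (π a) = r := orderOf_eq_prime hc'.pow fun e => h1 fun g _ =>
      mem_centralizer_zpowers.2 (e ▸ Commute.one_left g)
    have h0 : fix (kerRep ρ) P = ⊥ := by
      rcases hρ.irr (lns G k) inferInstance with h2 | h2
      · rw [eq_bot_iff, ← h2]
        exact fun v hv => mem_fix.2 fun g hg =>
          mem_fix.1 hv (π g) ((map_lns G π k).le (mem_map_of_mem π hg))
      · refine (h'.1 ?_).elim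
        rwa [← map_lns, Subgroup.map_eq_bot_iff, QuotientGroup.ker_mk']
    have haL : (orderOf a).Coprime (Nat.card L) := Nat.card_zpowers a ▸ hc.coprime hr hLG
    have key : ∀ d ≠ 0, d ∈ Submodule.span (AlgebraicClosure (ZMod s))
        (ι '' (L ⊓ lns C (k - 1) : Subgroup Γ)) → ∀ B ≤ P, π a ∈ normalizer (B : Set _) → Rob (kerRep ρ) (π a) B d → State G a (k + 1) := by
      intro d hd0 hd B hB haB hR
      obtain ⟨R, hRG, hRq, haR, rfl⟩ := hc.exists_lift hr π (hB.trans hPG) (hP.pgrp.to_le hB) haB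
      exact Or.inr (Or.inr ⟨R, hRG, haR, coprime_card_of_isPGroup hsq.symm hRq hL.pgrp,
        hρ.robG inf_le_left hd0 hd (hR.of_map fun _ => rfl)⟩)
    have key' : ∀ y, (∀ x ∈ L ⊓ C, ⁅y, x⁆ ∈ lns C (k - 1)) → Out (kerRep ρ) (π a) (π y) P →
        State G a (k + 1) := by
      rintro y hy ⟨u, hu, h2, B, hB, haB, hR⟩
      refine key _ (sub_ne_zero.2 h2) (hρ.sub_mem_span haL (fun x hx => mem_inf.2 ⟨?_, hy x
        ⟨hx.1, hLG hx.1, hx.2⟩⟩) (mem_fix_zpowers.2 (mem_fix_zpowers (ρ := kerRep ρ).1 hu)))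
        B hB haB hR
      exact commutator_le_right ⊤ L (commutator_mem_commutator (mem_top y) hx.1)
    have hCn : ∀ j, L ⊓ C ≤ normalizer (lns C j : Set Γ) := fun j =>
      inf_le_right.trans (le_normalizer.trans (normalizer_le_normalizer_lns C j))
    have hα : ∀ y ∈ lns (G.map π ⊓ centralizer (zpowers (π a) : Set _)) (k - 1),
        Out (kerRep ρ) (π a) y P → State G a (k + 1) := by
      rw [← hCe, ← map_lns]
      rintro _ ⟨y, hy, rfl⟩
      exact key' y fun x hx => Coprime.commutator_le_of_le_normalizer (hCn _)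
        (commutator_mem_commutator hy hx)
    have hβ : ∀ y ∈ P ⊓ lns (G.map π ⊓ centralizer (zpowers (π a) : Set _)) (k - 2),
        Out (kerRep ρ) (π a) y P → State G a (k + 1) := by
      rw [← hCe, ← map_lns]
      intro z hz
      obtain ⟨R, hR, hRq, e⟩ := exists_isPGroup_map_eq (hP.pgrp.to_le (zpowers_le.2 hz.1))
        (zpowers_le.2 hz.2)
      obtain ⟨y, hy, rfl⟩ := e.ge (mem_zpowers z)
      refine key' y fun x hx => lns_anti C (by omega : k - 1 ≤ k - 2 + 1) ?_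
      rw [← commutatorElement_inv]
      exact inv_mem (commutator_le_nres hR (Core.le_normalizer_inf le_normalizer_of_normal
        ((hR.trans (lns_le C _)).trans le_normalizer)) (hCn _)
        (coprime_card_of_isPGroup hsq.symm hRq (hL.pgrp.to_le inf_le_left))
        (Core.isSolvable_of_le hc.sol (inf_le_left.trans hLG)) (commutator_mem_commutator hx hy))
    rcases ih hc' h' with h2 | ⟨h2, h3⟩ | ⟨B, hB, haB, h2, h3⟩
    · exact (h1 h2).elim
    · rcases k with _ | j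
      · have h4 : ⁅P, P⁆ = ⊥ := h'.commutator_eq_bot hc'
        obtain ⟨d, hd, hd0, hR⟩ := exists_rob_of_fpf (ρ := kerRep ρ) hc'.sol
          (card_ne_zero_of_isPGroup hP.pgrp hqk) hr ho (le_normalizer_of_normal (mem_top _))
          (eq_bot_iff.2 (h2.trans h4.le)) h0 hρ.ne_bot
        refine key d hd0 (Submodule.span_mono (Set.image_mono ?_) (hρ.fix_le a haL
          (mem_fix_zpowers.2 (mem_fix_zpowers (ρ := kerRep ρ).1 hd)))) _ le_rfl
          (le_normalizer_of_normal (mem_top _)) hR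
        exact fun x hx => ⟨hx.1, hLG hx.1, hx.2⟩
      · rcases out_of_state kerRep_injective hc' hr h' hP (hS j rfl) hqk hrk ho h0 hρ.ne_bot h2 h3
          with ⟨y, hy, h4⟩ | ⟨y, hy, h4⟩
        exacts [hα y hy h4, hβ y hy h4]
    · obtain ⟨y, hy, h4⟩ := out_of_robG kerRep_injective hP.pgrp hqk hP.cls
        (fun g hg => hP.cls (hP.pow_mem hg)) hP.cen hr (hP.ne hPG hc'.cop) hrk ho
        (le_normalizer_of_normal (mem_top _)) le_normalizer_of_normal haB
        (fun e => hP.chief.1.ne_bot (eq_bot_of_isPGroup_of_not_dvd hP.pgrp le_rfl fun e' =>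
          hq.one_lt.ne' (Nat.eq_one_of_dvd_coprimes h2 e e')))
        (fun e => hc'.cop (e.trans (card_dvd_of_le hB)))
        (inf_le_inf_left _ ((lns_le _ _).trans inf_le_right)) h3
      exact hβ y hy h4

theorem Ctx.lns_eq_bot {Γ : Type u} [Group Γ] [Finite Γ] {G : Subgroup Γ} {a : Γ} (hc : Ctx r G a)
    (hr : r.Prime) {n : ℕ} (hn : lns (G ⊓ centralizer (zpowers a : Set Γ)) n = ⊥) :
    lns G (n + 2) = ⊥ := by
  have := hc.normal
  by_contra h0
  obtain ⟨H, hHG, ⟨haH, h1⟩, hmin⟩ := Core.exists_minimal_le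
    (P := fun H => a ∈ normalizer (H : Set Γ) ∧ lns H (n + 2) ≠ ⊥) (H := G)
    ⟨le_normalizer_of_normal (mem_top a), h0⟩
  set M := H ⊔ zpowers a
  have hHM : H ≤ M := le_sup_left
  let b : M := ⟨a, mem_sup_right (mem_zpowers a)⟩
  have e : ∀ X : Subgroup M, lns (X.map M.subtype) (n + 2) = ⊥ ↔ lns X (n + 2) = ⊥ := fun X =>
    lns_map_eq_bot_iff_of_injective M.subtype_injective
  have hc' : Ctx r (H.subgroupOf M) b := by
    refine ⟨(normal_subgroupOf_iff_le_normalizer hHM).2 (sup_le le_normalizer (zpowers_le.2 haH)),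
      map_injective M.subtype_injective ?_, ?_, Subtype.ext hc.pow, ?_⟩
    · rw [Subgroup.map_sup, map_subgroupOf_eq_of_le hHM, MonoidHom.map_zpowers,
        ← MonoidHom.range_eq_map, subtype_range]
      rfl
    · exact Core.isSolvable_subgroupOf (Core.isSolvable_of_le hc.sol hHG) M
    · rw [Core.card_subgroupOf_of_le hHM]
      exact fun h => hc.cop (h.trans (card_dvd_of_le hHG))
  have h' : SubMin (H.subgroupOf M) b (n + 2) := by
    refine ⟨by rwa [Ne, ← e, map_subgroupOf_eq_of_le hHM], fun X hX hb => ?_⟩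
    by_contra h2
    refine hX.ne (map_injective M.subtype_injective ?_)
    rw [map_subgroupOf_eq_of_le hHM]
    exact hmin _ ⟨le_normalizer_map M.subtype (mem_map_of_mem _ hb), fun h3 => h2 ((e X).1 h3)⟩
      (map_le_iff_le_comap.2 hX.le)
  have hn' : lns (H.subgroupOf M ⊓ centralizer (zpowers b : Set M)) n = ⊥ := by
    rw [← lns_map_eq_bot_iff_of_injective M.subtype_injective, hc'.map_inf_centralizer hr,
      map_subgroupOf_eq_of_le hHM, eq_bot_iff, ← hn]
    exact lns_mono (inf_le_inf_right _ hHG) n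
  obtain ⟨s, hs, hL, -⟩ := h'.layer hc' hr
  rcases state hr (n + 2) hc' h' with h2 | ⟨-, h2⟩ | ⟨B, -, -, -, g, -, hg, h2⟩
  · rw [inf_eq_left.2 h2] at hn'
    exact h'.1 (lns_eq_bot_of_le hn' (Nat.le_add_right n 2))
  · obtain ⟨N, _, hker⟩ := hL.exists_quotient
    refine lns_map_ne_bot hL hker rfl ?_
    rw [← hc'.map_eq hr hker h2, ← map_lns, lns_eq_bot_of_le hn' (Nat.le_succ n), Subgroup.map_bot]
  · refine hg (h2 _ le_rfl (commutator_le_self _) (Or.inl ?_))
    rw [Nat.add_sub_cancel, hn', inf_bot_eq]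
    exact bot_le

/-- Turull's theorem for an automorphism of prime order. -/
theorem fitChain_add_two {G : Type u} [Group G] [Finite G] (hG : Group.IsSolvable G)
    (σ : MulAut G) {r : ℕ} (hr : r.Prime) (hσ : σ ^ r = 1) (hcop : ¬ r ∣ Nat.card G)
    {C : Subgroup G} (hC : ∀ g, g ∈ C ↔ σ g = g) {n : ℕ} (hn : FitChain n C) :
    FitChain (n + 2) G := by
  let φ := (zpowers σ).subtype
  let b : zpowers σ := ⟨σ, mem_zpowers σ⟩
  have hb : zpowers b = ⊤ := (Subgroup.eq_top_iff' _).2 fun ⟨a, i, hi⟩ => ⟨i, Subtype.ext hi⟩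
  have hc : Ctx r ((⊤ : Subgroup G).map (SemidirectProduct.inl : G →* G ⋊[φ] zpowers σ))
      (SemidirectProduct.inr b) := by
    refine ⟨?_, eq_top_iff.2 fun x _ => ?_, Core.isSolvable_map (Core.isSolvable_top_iff.2 hG) _,
      by rw [← map_pow, show b ^ r = 1 from Subtype.ext hσ, map_one],
      by rwa [Coprime.card_map_inl, card_top]⟩
    · rw [← MonoidHom.range_eq_map, SemidirectProduct.range_inl_eq_ker_rightHom]
      infer_instance
    · rw [← SemidirectProduct.inl_left_mul_inr_right x, ← MonoidHom.map_zpowers, hb]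
      exact mul_mem_sup (mem_map_of_mem _ (mem_top _)) (mem_map_of_mem _ (mem_top _))
  rw [fitChain_iff, ← lns_map_eq_bot_iff_of_injective (SemidirectProduct.inl_injective (φ := φ))]
  refine hc.lns_eq_bot hr ?_
  rw [← MonoidHom.map_zpowers, Coprime.map_inl_inf_centralizer,
    lns_map_eq_bot_iff_of_injective SemidirectProduct.inl_injective, eq_bot_iff,
    ← lns_top_eq_bot_iff.1 (fitChain_iff.1 hn)]
  refine lns_mono (fun g hg => (hC g).2 ?_) n
  exact hg.2 b (mem_zpowers b)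

end Cfsg.Agent.Mod
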