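import Mathlib
import Cfsg.Agent.Lib.Mod.Faithful
import Cfsg.Agent.Lib.PGrp.Frattini

/-! Fixed-point-free coprime action of a group whose order is a product of two primes. -/

namespace Cfsg.Agent.Mod

open Module Polynomial Subgroup
open scoped commutatorElement

universe u

theorem prime_of_mul_eq {a b p q : ℕ} (hp : p.Prime) (hq : q.Prime) (h : a * b = p * q)
    (ha : a ≠ 1) (hb : b ≠ 1) : a.Prime ∧ b.Prime := by
  have h0 : a * b ≠ 0 := h ▸ mul_ne_zero hp.ne_zero hq.ne_zero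
  have ha0 := left_ne_zero_of_mul h0
  have hb0 := right_ne_zero_of_mul h0
  have h1 := congrArg ArithmeticFunction.cardFactors h
  rw [ArithmeticFunction.cardFactors_mul ha0 hb0,
    ArithmeticFunction.cardFactors_mul hp.ne_zero hq.ne_zero,
    ArithmeticFunction.cardFactors_apply_prime hp, ArithmeticFunction.cardFactors_apply_prime hq]
    at h1
  have h2 := ArithmeticFunction.cardFactors_pos_iff_one_lt.2 (show 1 < a by omega)
  have h3 := ArithmeticFunction.cardFactors_pos_iff_one_lt.2 (show 1 < b by omega)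
  exact ⟨ArithmeticFunction.cardFactors_eq_one_iff_prime.1 (by omega),
    ArithmeticFunction.cardFactors_eq_one_iff_prime.1 (by omega)⟩

section Groups

variable {Γ : Type*} [Group Γ] [Finite Γ]

/-- The order of `A` is a product of two primes. -/
def TwoPrimes (A : Subgroup Γ) : Prop := ∃ p q : ℕ, p.Prime ∧ q.Prime ∧ Nat.card A = p * q

theorem TwoPrimes.prime {A B : Subgroup Γ} (h : TwoPrimes A) (h1 : B < A) (h2 : B ≠ ⊥) :
    (Nat.card B).Prime ∧ (B.relIndex A).Prime := by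
  obtain ⟨p, q, hp, hq, h⟩ := h
  exact prime_of_mul_eq hp hq ((Core.card_mul_relIndex_of_le h1.le).trans h)
    (fun e => h2 (card_eq_one.1 e)) fun e => h1.not_ge (relIndex_eq_one.1 e)

theorem TwoPrimes.eq_of_le {A B S : Subgroup Γ} (h : TwoPrimes A) (h2 : B ≠ ⊥) (h3 : B ≤ S)
    (h4 : S < A) : B = S := by
  have h5 := (h.prime h4 fun e => h2 (le_bot_iff.1 (e ▸ h3))).1
  refine Core.eq_of_le_of_card_eq h3 ?_
  exact ((Nat.dvd_prime h5).1 (card_dvd_of_le h3)).resolve_left fun e => h2 (card_eq_one.1 e)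

theorem isNilpotent_of_forall_le_sup {G : Subgroup Γ} [G.Normal] (hsol : Group.IsSolvable G)
    (h : ∀ (t : ℕ) [Fact t.Prime], ∃ T : Subgroup Γ, IsPGroup t T ∧
      G ≤ T ⊔ centralizer ((pCore t Γ ⊓ G : Subgroup Γ) : Set Γ)) : Group.IsNilpotent G := by
  have h1 : fittingSubgroup Γ ⊓ G ≤ centralizer (nres G : Set Γ) := by
    refine fitting_inf_le_of_forall_pCore fun t _ => ?_
    obtain ⟨T, hT, hle⟩ := h t
    rw [le_centralizer_iff, ← QuotientGroup.ker_mk'
      (centralizer ((pCore t Γ ⊓ G : Subgroup Γ) : Set Γ)), nres_le_ker_iff]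
    refine IsPGroup.isNilpotent (p := t) ((hT.map (QuotientGroup.mk' _)).to_le ?_)
    rwa [Core.map_mk_le_map_mk_iff]
  have h2 : nres G ≤ fittingSubgroup Γ ⊓ G :=
    le_trans (le_inf (nres_le G) (le_centralizer_iff.1 h1)) (inf_centralizer_fitting_le hsol)
  rw [← nres_eq_bot_iff, ← le_bot_iff]
  refine le_trans (le_inf (h2.trans inf_le_left) le_rfl)
    (fitting_inf_le_of_forall_pCore fun t _ => ?_)
  obtain ⟨T, hT, hle⟩ := h t
  set N := nres G
  by_contra hne
  have h3 := PGrp.commutator_lt_of_le_normalizer hT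
    ((Core.isPGroup_pCore t).to_inf_left (K := N)) le_normalizer_of_normal
    fun e => hne e.le
  have h4 : N ≤ (pCore t Γ ⊓ N) ⊔ (pPrimeCore t Γ ⊓ N) := by
    refine le_trans (le_inf (h2.trans inf_le_left) le_rfl)
      (fitting_inf_le_of_forall_pCore fun q _ => ?_)
    by_cases hq : q = t
    · subst hq; exact le_sup_left
    · exact (inf_le_inf_right _ (Core.pCore_le_pPrimeCore_of_ne hq)).trans le_sup_right
  have h5 : ⁅pCore t Γ ⊓ N, G⁆ ≤ ⁅pCore t Γ ⊓ N, T⁆ := by
    refine (commutator_mono le_rfl hle).trans (Reg.commutator_sup_right_le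
      (normalizer_commutator_ge_right _ _) ?_ le_rfl ?_)
    · refine (centralizer_le (SetLike.coe_subset_coe.2 ?_)).trans (centralizer_le_normalizer _)
      exact (commutator_le_left _ _).trans (inf_le_inf_left _ (nres_le G))
    · rw [commutator_eq_bot_iff_le_centralizer.2]
      · exact bot_le
      · exact le_centralizer_iff.1 (centralizer_le (SetLike.coe_subset_coe.2
          (inf_le_inf_left _ (nres_le G))))
  have h6 : N ≤ ⁅pCore t Γ ⊓ N, G⁆ ⊔ (pPrimeCore t Γ ⊓ N) := by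
    refine (commutator_nres G).ge.trans ((commutator_mono h4 le_rfl).trans ?_)
    rw [Reg.commutator_sup_left]
    exact sup_le_sup_left (commutator_le_left _ _) _
  refine h3.not_ge (le_trans ?_ h5)
  refine (le_inf (inf_le_right.trans h6) le_rfl).trans ?_
  rw [Core.sup_inf_assoc_of_le_normalizer le_normalizer_of_normal (commutator_le_left _ _),
    sup_le_iff]
  refine ⟨le_rfl, le_trans ?_ bot_le⟩
  rw [← Core.pCore_inf_pPrimeCore (p := t), inf_comm]
  exact inf_le_inf inf_le_left inf_le_left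

theorem isNilpotent_of_forall_isSylowIn {G : Subgroup Γ} [G.Normal] (hsol : Group.IsSolvable G)
    (h : ∀ (s t : ℕ) [Fact s.Prime] [Fact t.Prime], s ≠ t → ∃ P, Coprime.IsSylowIn s P G ∧
      P ≤ centralizer ((pCore t Γ ⊓ G : Subgroup Γ) : Set Γ)) : Group.IsNilpotent G := by
  refine isNilpotent_of_forall_le_sup hsol fun t _ => ?_
  obtain ⟨T, hT⟩ := Coprime.exists_isSylowIn t G
  refine ⟨T, hT.2.1, Coprime.le_of_forall_isSylowIn fun s hs _ => ?_⟩
  haveI := Fact.mk hs
  by_cases hst : s = t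
  · subst hst; exact ⟨T, hT, le_sup_left⟩
  · obtain ⟨P, hP, hle⟩ := h s t hst
    exact ⟨P, hP, hle.trans le_sup_right⟩

theorem le_normalizer_commutator_sup {Γ : Type*} [Group Γ] {P B : Subgroup Γ} :
    P ≤ normalizer ((⁅P, B⁆ ⊔ B : Subgroup Γ) : Set Γ) := by
  refine le_normalizer_iff.2 fun g hg x hx => ?_
  obtain ⟨n, hn, y, hy, rfl⟩ :=
    (Core.mem_sup_of_le_normalizer' (normalizer_commutator_ge_right P B)).1 hx
  have : g * (n * y) * g⁻¹ = (g * n * g⁻¹ * ⁅g, y⁆) * y := by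
    simp only [commutatorElement_def]; group
  rw [this]
  exact mul_mem_sup (mul_mem (Reg.conj_mem_of_mem_normalizer (normalizer_commutator_ge_left P B hg) hn)
    (commutator_mem_commutator hg hy)) hy

theorem commutator_eq_of_fpf {P A : Subgroup Γ} (hA : A ≤ normalizer (P : Set Γ))
    (hcop : (Nat.card A).Coprime (Nat.card P)) (hsol : Group.IsSolvable A ∨ Group.IsSolvable P)
    (hf : P ⊓ centralizer (A : Set Γ) = ⊥) : ⁅P, A⁆ = P := by
  have := Coprime.centralizer_sup_commutator hA hcop hsol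
  rwa [hf, bot_sup_eq] at this

theorem fpf_of_card_dvd_prime {P A : Subgroup Γ} (hf : P ⊓ centralizer (A : Set Γ) = ⊥) {r : ℕ}
    (hr : r.Prime) (hA : Nat.card A ∣ r) : ∀ h ∈ A, h ≠ 1 → ∀ g ∈ P, h * g = g * h → g = 1 := by
  intro a ha h1 g hg e
  have hz : zpowers a = A := by
    refine eq_of_le_of_card_ge (zpowers_le.2 ha) ?_
    rw [Nat.card_zpowers]
    rcases (Nat.dvd_prime hr).1 ((A.orderOf_dvd_natCard ha).trans hA) with h2 | h2
    · exact absurd (orderOf_eq_one_iff.1 h2) h1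
    · exact h2 ▸ Nat.le_of_dvd hr.pos hA
  rw [← mem_bot, ← hf]
  refine ⟨hg, ?_⟩
  rw [← hz, zpowers_eq_closure, centralizer_closure]
  exact mem_centralizer_singleton_iff.2 e.symm

end Groups

variable {k V : Type*} [Field k] [AddCommGroup V] [Module k V] [IsAlgClosed k]
  [FiniteDimensional k V]

theorem inf_fix_ne_bot_of_prime_index {G : Type u} [Group G] [Finite G]
    {ρ : Representation k G V} {P A B : Subgroup G} (hsol : Group.IsSolvable P)
    (hk : (Nat.card P : k) ≠ 0) (hA : A ≤ normalizer (P : Set G))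
    (hcop : (Nat.card A).Coprime (Nat.card P)) (hf : P ⊓ centralizer (A : Set G) = ⊥)
    {W : Submodule k V} (hPW : IsInv ρ P W) (hAW : IsInv ρ A W) (hW : W ≠ ⊥)
    (h0 : W ⊓ fix ρ P = ⊥) (hB : W ≤ fix ρ B) (hr : (B.relIndex A).Prime) :
    W ⊓ fix ρ A ≠ ⊥ := by
  obtain ⟨G', _, _, π, σ, h⟩ := exists_isFaithfulOn (hPW.sup_left hAW)
  rw [Ne, ← h.fix_eq_bot_iff le_sup_right, ← top_inf_eq (fix σ _)]
  have hP : P ≤ P ⊔ A := le_sup_left
  have hA' : A ≤ P ⊔ A := le_sup_right
  refine (isFreeOn_of_fpf' (Core.isSolvable_map (Core.isSolvable_subgroupOf hsol _) π)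
    (ne_zero_of_dvd_ne_zero hk (Nat.cast_dvd_cast (card_im_dvd π hP))) (im_le_normalizer π hA)
    (fpf_of_card_dvd_prime ?_ hr ?_) (isInv_top _) (isInv_top _)
    (by rw [top_inf_eq, h.fix_eq_bot_iff hP, h0])).inf_fix_ne_bot (isInv_top _) ?_
  · refine map_inf_centralizer_eq_bot (subgroupOf_le_normalizer hA)
      (by rwa [Core.card_subgroupOf_of_le hP, Core.card_subgroupOf_of_le hA'])
      (Or.inr (Core.isSolvable_subgroupOf hsol _)) ?_ π
    rw [inf_centralizer_subgroupOf hA', hf, bot_subgroupOf]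
  · rw [← relIndex_ker, ← relIndex_subgroupOf hA']
    exact relIndex_dvd_of_le_left _ fun b hb => h.eq_one_iff.2 (le_kerOn_iff.2 hB hb)
  · haveI := Submodule.nontrivial_iff_ne_bot.2 hW
    exact top_ne_bot

theorem fix_commutator_sup_eq_bot {G : Type u} [Group G] [Finite G]
    {ρ : Representation k G V} {P A B : Subgroup G} (hsol : Group.IsSolvable P)
    (hk : (Nat.card P : k) ≠ 0) (hAk : (Nat.card A : k) ≠ 0) (hA : A ≤ normalizer (P : Set G))
    (hcop : (Nat.card A).Coprime (Nat.card P)) (hf : P ⊓ centralizer (A : Set G) = ⊥)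
    (hP0 : fix ρ P = ⊥) (hA0 : fix ρ A = ⊥) (h2 : TwoPrimes A) (hBA : B < A) (hB : B ≠ ⊥) :
    fix ρ (⁅P, B⁆ ⊔ B) = ⊥ := by
  by_contra hne
  have hinv : IsInv ρ P (fix ρ (⁅P, B⁆ ⊔ B)) := isInv_fix le_normalizer_commutator_sup
  by_cases hn : A ≤ normalizer (B : Set G)
  · refine inf_fix_ne_bot_of_prime_index hsol hk hA hcop hf hinv
      (isInv_fix (Core.le_normalizer_sup (Core.le_normalizer_commutator hA hn) hn)) hne
      (by rw [hP0, inf_bot_eq]) (fix_anti le_sup_right) (h2.prime hBA hB).2 ?_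
    rw [hA0, inf_bot_eq]
  obtain ⟨U, hU, hirr⟩ := hinv.exists_isIrr_le hne
  have hc := hirr.hcomp_mem_comps
  have hBc : B ≤ stab ρ (hcomp ρ P U) := fun b hb => by
    rw [mem_stab, hcomp_map_rho (hA (hBA.le hb)), mem_stab.1]
    exact isInv_iff_le_stab.1 (fun g hg w hw => by
      rwa [mem_fix.1 (hU hw) g (mem_sup_right hg)]) hb
  by_cases hS : A ≤ stab ρ (hcomp ρ P U)
  · set K := P ⊓ kerOn ρ (hcomp ρ P U)
    have hAK : A ≤ normalizer (K : Set G) :=
      Core.le_normalizer_inf hA (normalizer_kerOn (isInv_iff_le_stab.2 hS))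
    have hPK : P ≤ normalizer (K : Set G) :=
      Core.le_normalizer_inf le_normalizer (normalizer_kerOn (isInv_of_mem_comps hc))
    haveI := Core.normal_subgroupOf_of_le_normalizer hPK
    set S := ((Coprime.sectionHom hA hAK).ker).map A.subtype
    have hBS : B ≤ S := fun b hb => ⟨⟨b, hBA.le hb⟩,
      (Coprime.mem_ker_sectionHom hA hAK _).2 fun g hg => by
        have h1 := commutator_mem_commutator hg hb
        have h3 := Coprime.commutator_le_of_le_normalizer (hBA.le.trans hA) h1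
        exact ⟨h3, (kerOn_hcomp h3).2 (le_kerOn_iff.2 hU (mem_sup_left h1))⟩, rfl⟩
    have hSA : S = A := by
      by_contra h
      exact hn (h2.eq_of_le hB hBS (lt_of_le_of_ne (map_subtype_le _) h) ▸
        Core.le_normalizer_map_subtype A _)
    refine ne_bot_of_mem_comps hc (le_bot_iff.1 ?_)
    rw [← hP0, ← le_kerOn_iff]
    refine (commutator_eq_of_fpf hA hcop (Or.inr hsol) hf).ge.trans (commutator_le.2 ?_)
    intro g hg a ha
    obtain ⟨a, ha', rfl⟩ := hSA.ge ha
    exact ((Coprime.mem_ker_sectionHom hA hAK _).1 ha' g hg).2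
  · have h3 := inf_fix_inf_stab_eq_bot hk hA hAk hA0 hc
    rw [← h2.eq_of_le hB (le_inf hBA.le hBc) (inf_lt_left.2 hS)] at h3
    exact hirr.ne_bot (le_bot_iff.1 (h3 ▸ le_inf le_hcomp (hU.trans (fix_anti le_sup_right))))

theorem mem_of_forall_commutator_mem {G : Type*} [Group G] [Finite G] {R X Y : Subgroup G}
    (hX : X ≤ normalizer (Y : Set G)) (hcop : (Nat.card X).Coprime (Nat.card Y))
    (hsol : Group.IsSolvable X ∨ Group.IsSolvable Y) (hY : Y ≤ R)
    (h : R ⊓ centralizer (X : Set G) ≤ Y) {g : G} (hg : g ∈ R) (h1 : ∀ x ∈ X, ⁅g, x⁆ ∈ Y) :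
    g ∈ Y := by
  obtain ⟨n, hn, h2⟩ := Coprime.exists_mul_mem_centralizer hX hcop hsol (g := g⁻¹) fun a ha => by
    simpa only [commutatorElement_def, inv_inv, mul_assoc] using h1 a ha
  exact Y.inv_mem_iff.1 ((Y.mul_mem_cancel_right hn).1 (h ⟨R.mul_mem (R.inv_mem hg) (hY hn), h2⟩))

theorem isInv_iSup_map {G : Type*} [Group G] {ρ : Representation k G V} (P : Subgroup G)
    (c : Submodule k V) : IsInv ρ P (⨆ x : P, c.map (ρ x)) := by
  refine isInv_iff_map_le.2 fun g hg => ?_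
  rw [Submodule.map_iSup]
  exact iSup_le fun x => le_iSup_of_le (⟨g, hg⟩ * x) (by rw [← map_rho_mul]; rfl)

theorem exists_lt_of_comm {G : Type*} [Group G] [Finite G] {ρ : Representation k G V}
    (hρ : Function.Injective ρ) {R P A : Subgroup G} (hRk : (Nat.card R : k) ≠ 0)
    (hAk : (Nat.card A : k) ≠ 0) (hcomm : R ≤ centralizer (R : Set G))
    (hPR : P ≤ normalizer (R : Set G)) (hAR : A ≤ normalizer (R : Set G))
    (hAP : A ≤ normalizer (P : Set G)) (hcop : (Nat.card A).Coprime (Nat.card P))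
    (hsol : Group.IsSolvable P) (hRA : ⁅R, A⁆ = R) (hR0 : R ≠ ⊥) (h0 : fix ρ A = ⊥)
    (h2 : TwoPrimes A) :
    ∃ B < A, B ≠ ⊥ ∧ ∃ D < R, P ≤ normalizer (D : Set G) ∧ ⁅R, B⁆ ≤ D := by
  obtain ⟨c, hc, hcR⟩ := exists_comp_not_le_fix hRk hρ hR0
  have hc' : ∀ x ∈ P, c.map (ρ x) ∈ comps ρ R := fun x hx => map_rho_mem_comps hc (hPR hx)
  have hsc : ∀ x ∈ P, R ≤ scal ρ (c.map (ρ x)) := fun x hx =>
    le_scal_of_mem_comps le_rfl hcomm (hc' x hx)
  set B := A ⊓ (P ⊔ (stab ρ c ⊓ normalizer (P : Set G)))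
  have hBA : B < A := by
    refine inf_lt_left.2 fun hle => hcR ?_
    letI : MulAction G (Submodule k V) :=
      { smul := fun g U => U.map (ρ g)
        one_smul := fun U => map_rho_one U
        mul_smul := fun g h U => map_rho_mul U g h }
    obtain ⟨g, hg, h⟩ := Coprime.glauberman_exists hAP hcop (Or.inr hsol) c fun a ha => by
      obtain ⟨g, hg, y, hy, rfl⟩ := (Core.mem_sup_of_le_normalizer' inf_le_right).1 (hle ha)
      refine ⟨g, hg, ?_⟩
      rw [mul_smul]
      exact congrArg (g • ·) (mem_stab.1 hy.1)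
    have h3 := le_kerOn_of_le_stab (hsc g hg) (fun a ha => mem_stab.2 (h a ha)) hRA
    rw [← map_rho_inv_map (ρ := ρ) c g, ← (isInv_fix (ρ := ρ) hPR).map_eq (inv_mem hg)]
    exact Submodule.map_mono (le_kerOn_iff.1 h3)
  have hB : ∀ x ∈ P, A ⊓ stab ρ (c.map (ρ x)) = B := fun x hx => by
    refine h2.eq_of_le (inf_stab_ne_bot hRk hAR hAk h0 (hc' x hx))
      (le_inf inf_le_left fun b hb => ?_) hBA
    have e : b = x * (x⁻¹ * b * x) * x⁻¹ := by group
    rw [e]
    refine mul_mem (mul_mem_sup hx (mem_inf.2 ⟨?_, ?_⟩)) (mem_sup_left (inv_mem hx))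
    · rw [mem_stab, map_rho_mul, map_rho_mul, mem_stab.1 hb.2, map_rho_inv_map]
    · exact mul_mem (mul_mem (inv_mem (le_normalizer hx)) (hAP hb.1)) (le_normalizer hx)
  refine ⟨B, hBA, hB 1 (one_mem _) ▸ inf_stab_ne_bot hRk hAR hAk h0 (hc' 1 (one_mem _)),
    R ⊓ kerOn ρ (⨆ x : P, c.map (ρ x)), inf_lt_left.2 fun h => hcR ?_,
    Core.le_normalizer_inf hPR (normalizer_kerOn (isInv_iSup_map P c)),
    le_inf (Coprime.commutator_le_of_le_normalizer (hBA.le.trans hAR)) ?_⟩
  · exact (le_iSup_of_le (1 : P) (map_rho_one c).ge).trans (le_kerOn_iff.1 h)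
  · rw [le_kerOn_iff, iSup_le_iff]
    intro x
    rw [← le_kerOn_iff, commutator_le]
    exact fun a ha b hb => commutator_mem_kerOn_of_mem_scal (hsc x x.2 ha)
      ((hB x x.2).ge hb).2

theorem dvd_card_of_isPGroup {G : Type*} [Group G] [Finite G] {t : ℕ} [Fact t.Prime]
    {R : Subgroup G} (hR : IsPGroup t R) (h : R ≠ ⊥) : t ∣ Nat.card R := by
  by_contra h1
  exact h (eq_bot_of_isPGroup_of_not_dvd hR le_rfl h1)

theorem Fpf.isNilpotent_of_twoPrimes {Γ : Type u} [Group Γ] [Finite Γ]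
    {ρ : Representation k Γ V} (hρ : Function.Injective ρ) {p : ℕ} [Fact p.Prime] [CharP k p]
    (hc : pCore p Γ = ⊥) {G A : Subgroup Γ} (h : Fpf G A) (hAk : (Nat.card A : k) ≠ 0)
    (h0 : fix ρ A = ⊥) (h2 : TwoPrimes A) : Group.IsNilpotent G := by
  haveI := h.normal
  refine isNilpotent_of_forall_isSylowIn h.sol fun s t hs ht hst => ?_
  obtain ⟨P, hP, hAP⟩ := Coprime.exists_invariant_sylow s le_normalizer_of_normal h.cop
    (Or.inr h.sol)
  refine ⟨P, hP, ?_⟩
  by_contra hne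
  rw [← Coprime.commutator_eq_bot_iff_le_centralizer'] at hne
  have hO : IsPGroup t ↥(pCore t Γ ⊓ G) := (Core.isPGroup_pCore t).to_inf_left
  have htp : t ≠ p := fun e => hne (by rw [e, hc, bot_inf_eq, commutator_bot_left])
  have htk : (t : k) ≠ 0 := natCast_ne_zero_of_ne k ht.out htp
  obtain ⟨R, hRO, hLR, hR0, hRP, hR2, hR3, hmin⟩ := exists_minimal_noncentralized (A := P ⊔ A)
    (Coprime.isSolvable_of_isPGroup hO) le_normalizer_of_normal le_sup_left
    (sup_le le_normalizer hAP) (coprime_card_of_isPGroup hst hP.2.1 hO) hne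
  have hR := hO.to_le hRO
  have hRG : R ≤ G := hRO.trans inf_le_right
  have hRk := card_ne_zero_of_isPGroup hR htk
  have hPR := le_sup_left.trans hLR
  have hAR := le_sup_right.trans hLR
  have hsolR := Coprime.isSolvable_of_isPGroup hR
  have hsolP := Coprime.isSolvable_of_isPGroup hP.2.1
  have hcopAR := Coprime.coprime_mono h.cop le_rfl hRG
  have hcopAP := Coprime.coprime_mono h.cop le_rfl hP.1
  have hcopPR := coprime_card_of_isPGroup hst hP.2.1 hR
  have hfpf : ∀ X ≤ G, X ⊓ centralizer (A : Set Γ) = ⊥ := fun X hX =>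
    le_bot_iff.1 (h.fpf ▸ inf_le_inf_right _ hX)
  have hRR : ⁅R, R⁆ ≤ R := Coprime.commutator_le_of_le_normalizer le_normalizer
  have hexp : ∀ g ∈ R, g ^ t ∈ centralizer (P : Set Γ) := fun g hg =>
    hmin _ (PGrp.map_frattini_subtype_lt hR0)
      (hLR.trans (Core.normalizer_le_normalizer_map_of_characteristic R _))
      (PGrp.pow_mem_map_frattini hR hg)
  set Z := R ⊓ centralizer (P : Set Γ)
  obtain ⟨B, hBA, hB0, D, hDR, hPD, hZD, hRB⟩ : ∃ B < A, B ≠ ⊥ ∧ ∃ D < R,
      P ≤ normalizer (D : Set Γ) ∧ Z ≤ D ∧ ⁅R, B⁆ ≤ D := by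
    by_cases hcomm : R ≤ centralizer (R : Set Γ)
    · obtain ⟨B, h1, h3, D, h4, h5, h6⟩ := exists_lt_of_comm hρ hRk hAk hcomm hPR hAR hAP hcopAP
        hsolP (commutator_eq_of_fpf hAR hcopAR (Or.inr hsolR) (hfpf R hRG)) hR0 h0 h2
      refine ⟨B, h1, h3, D, h4, h5, le_trans ?_ bot_le, h6⟩
      rw [← Coprime.centralizer_inf_commutator_eq_bot hPR hcopPR
        (le_centralizer_iff_isMulCommutative.1 hcomm), hRP]
      exact le_inf le_rfl inf_le_left
    · set Y := R ⊓ centralizer (R : Set Γ)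
      have hLY := Core.le_normalizer_inf hLR (Core.le_normalizer_centralizer hLR)
      have hAY := le_sup_right.trans hLY
      have hYP : Y ≤ centralizer (P : Set Γ) := hmin _ (inf_lt_left.2 hcomm) hLY
      have hYk : (Nat.card Y : k) ≠ 0 := card_ne_zero_of_le hRk inf_le_left
      have hRY : ⁅R, R⁆ ≤ Y := le_inf hRR ((le_inf hRR hR2).trans hR3)
      obtain ⟨c, hc, hcR⟩ := exists_comp_not_le_fix (R := ⁅R, R⁆) hYk hρ
        fun e => hcomm (commutator_eq_bot_iff_le_centralizer.1 e)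
      rw [← le_kerOn_iff] at hcR
      have hsc : Y ≤ scal ρ c := le_scal_of_mem_comps le_rfl
        (inf_le_right.trans (centralizer_le (SetLike.coe_subset_coe.2 inf_le_left))) hc
      have hBA : A ⊓ stab ρ c < A := inf_lt_left.2 fun e => hcR (hRY.trans
        (le_kerOn_of_le_stab hsc e (commutator_eq_of_fpf hAY
          (Coprime.coprime_mono hcopAR le_rfl inf_le_left)
          (Or.inr (Core.isSolvable_of_le hsolR inf_le_left)) (hfpf _ (inf_le_left.trans hRG)))))
      have hB0 := inf_stab_ne_bot hYk hAY hAk h0 hc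
      have hl := (h2.prime hBA hB0).1
      obtain ⟨b, hb, ho⟩ := exists_zpowers_eq_of_prime_card hl rfl
      have hb' : b ∈ A ⊓ stab ρ c := hb ▸ mem_zpowers b
      have hne' : ∀ q [Fact q.Prime] (X : Subgroup Γ), X ≤ G → IsPGroup q X → X ≠ ⊥ →
          Nat.card ↥(A ⊓ stab ρ c) ≠ q := fun q _ X h1 h3 h4 e =>
        hl.one_lt.ne' (Nat.eq_one_of_dvd_coprimes h.cop (card_dvd_of_le inf_le_left)
          (e ▸ (dvd_card_of_isPGroup h3 h4).trans (card_dvd_of_le h1)))
      obtain ⟨D, h3, h4, h5, h6⟩ := exists_lt_of_prime hR htk (hRY.trans hsc)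
        (fun g hg => hR3 ⟨pow_mem hg t, hexp g hg⟩) hP.2.1 hst hPR hRP hl (hne' t R hRG hR hR0)
        (hne' s P hP.1 hP.2.1 fun e => hR0 (by rw [← hRP, e, commutator_bot_right]))
        (hAR hb'.1) (hAP hb'.1) ho
        (isInv_of_le_centralizer (le_centralizer_iff.1 inf_le_right) hc)
        (isInv_of_le_centralizer (le_centralizer_iff.1 hYP) hc) hb'.2
        (by rw [hb]; exact inf_fix_inf_stab_eq_bot hYk hAY hAk h0 hc) hcR
      exact ⟨_, hBA, hB0, D, h3, (le_sup_right.trans le_sup_left).trans h4,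
        (le_inf inf_le_left hR3).trans h5, hb ▸ h6⟩
  have hBR := hBA.le.trans hAR
  have hBD := Coprime.le_normalizer_of_commutator_le hDR.le hRB
  have hRZ : ⁅R, R⁆ ≤ Z := le_inf hRR hR2
  have hRD := Coprime.le_normalizer_of_commutator_le hDR.le (hRZ.trans hZD)
  have hBP := hBA.le.trans hAP
  have hPB : ⁅P, B⁆ ≤ P := Coprime.commutator_le_of_le_normalizer hBP
  have hM : ⁅R, ⁅P, B⁆ ⊔ B⁆ ≤ D := by
    refine Reg.commutator_sup_right_le (hPB.trans hPD) hBD ?_ hRB
    rw [commutator_comm]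
    refine Reg.three_subgroups hPD hBD hRD ?_ (hRP.symm ▸ hRB)
    rw [commutator_comm B]
    exact (commutator_mono hRB le_rfl).trans (Coprime.commutator_le_of_le_normalizer hPD)
  have hML : ⁅P, B⁆ ⊔ B ≤ P ⊔ A := sup_le_sup hPB hBA.le
  have hcopL : (Nat.card ↥(P ⊔ A)).Coprime (Nat.card R) := by
    rw [sup_comm]
    exact (hcopAR.mul_left hcopPR).coprime_dvd_left (Core.card_sup_dvd_of_le_normalizer hAP)
  have hLZ : P ⊔ A ≤ normalizer (Z : Set Γ) :=
    Core.le_normalizer_inf hLR (Core.le_normalizer_centralizer (sup_le le_normalizer hAP))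
  set L := R ⊔ (P ⊔ A)
  have hRL : R ≤ L := le_sup_left
  have hPL : P ≤ L := le_sup_left.trans le_sup_right
  have hAL : A ≤ L := le_sup_right.trans le_sup_right
  haveI := Core.normal_subgroupOf_of_le_normalizer (sup_le le_normalizer hLR : L ≤ _)
  haveI := Core.normal_subgroupOf_of_le_normalizer
    (sup_le (Coprime.le_normalizer_of_commutator_le inf_le_left hRZ) hLZ : L ≤ _)
  obtain ⟨W, _, _, _, σ, -, hσ⟩ := exists_rep_section (AlgebraicClosure (ZMod t))
    (R := R.subgroupOf L) (Y := Z.subgroupOf L)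
    (by rw [commutator_subgroupOf hRL hRL]; exact fun _ hx => hRZ hx)
    fun g hg => ⟨pow_mem hg t, hexp g hg⟩
  have hfix : ∀ X ≤ P ⊔ A, R ⊓ centralizer (X : Set Γ) ≤ Z → fix σ (X.subgroupOf L) = ⊥ :=
    fun X hX h1 => (hσ _).2 fun g hg h3 => mem_of_forall_commutator_mem (hX.trans hLZ)
      (Coprime.coprime_mono hcopL hX inf_le_left)
      (Or.inr (Core.isSolvable_of_le hsolR inf_le_left)) inf_le_left h1 hg
      fun x hx => h3 ⟨x, (hX.trans le_sup_right) hx⟩ hx
  have hnd : ∀ X ≤ P ⊔ A, (Nat.card (X.subgroupOf L) : AlgebraicClosure (ZMod t)) ≠ 0 :=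
    fun X hX => natCast_ne_zero_of_not_dvd _ fun hd => by
      rw [Core.card_subgroupOf_of_le (hX.trans le_sup_right)] at hd
      exact ht.out.one_lt.ne' (Nat.eq_one_of_dvd_coprimes hcopL (hd.trans (card_dvd_of_le hX))
        (dvd_card_of_isPGroup hR hR0))
  have hBL := hBA.le.trans hAL
  have key := fix_commutator_sup_eq_bot (ρ := σ) (B := B.subgroupOf L)
    (Core.isSolvable_subgroupOf hsolP L) (hnd P le_sup_left) (hnd A le_sup_right)
    (subgroupOf_le_normalizer hAP)
    (by rwa [Core.card_subgroupOf_of_le hAL, Core.card_subgroupOf_of_le hPL])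
    (by rw [inf_centralizer_subgroupOf hAL, hfpf P hP.1, bot_subgroupOf])
    (hfix P le_sup_left le_rfl) (hfix A le_sup_right (by rw [hfpf R hRG]; exact bot_le))
    (by rwa [TwoPrimes, Core.card_subgroupOf_of_le hAL])
    (lt_of_le_of_ne (fun _ hx => hBA.le hx) fun e => hBA.not_ge fun a ha =>
      (e.ge (show (⟨a, hAL ha⟩ : L) ∈ A.subgroupOf L from ha)))
    (by rwa [Ne, subgroupOf_eq_bot_iff hBL])
  rw [commutator_subgroupOf hPL hBL, ← subgroupOf_sup (hPB.trans hPL) hBL, hσ] at key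
  refine hDR.not_ge ?_
  rw [← Coprime.centralizer_sup_commutator (hML.trans hLR)
    (Coprime.coprime_mono hcopL hML le_rfl) (Or.inr hsolR)]
  refine sup_le (le_trans (fun g hg => ?_) hZD) hM
  refine key ⟨g, hRL hg.1⟩ hg.1 fun x hx => ?_
  rw [mem_subgroupOf, show ((⁅(⟨g, hRL hg.1⟩ : L), x⁆ : L) : Γ) = 1 from
    commutatorElement_eq_one_iff_mul_comm.2 (hg.2 x hx).symm]
  exact one_mem _

/-- Fitting height at most two. -/
theorem Fpf.lns_two_eq_bot {Γ : Type u} [Group Γ] [Finite Γ] {G A : Subgroup Γ} (h : Fpf G A)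
    (h2 : TwoPrimes A) : lns G 2 = ⊥ := by
  haveI := h.normal
  refine lns_succ_eq_bot_iff.2 (h.isNilpotent_of_forall_rep (N := nres G) (nres_le G)
    fun p _ Γ' _ _ π hπ W _ _ _ ρ hρ hc hp h0 => ?_)
  have h' := h.map hπ
  haveI := h'.normal
  rw [map_nres, nres_eq_bot_iff]
  by_cases hk : π.ker ⊓ A = ⊥
  · have hcard : Nat.card (A.map π) = Nat.card A := by
      rw [← Core.card_inf_ker_mul_card_map π A, hk, card_bot, one_mul]
    exact h'.isNilpotent_of_twoPrimes hρ hc (natCast_ne_zero_of_not_dvd _ (by rwa [hcard])) h0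
      (by rwa [TwoPrimes, hcard])
  · by_cases hA : A ≤ π.ker
    · exact isNilpotent_of_fpf_of_card_dvd_prime le_normalizer_of_normal h'.fpf Nat.prime_two
        (by rw [(Subgroup.map_eq_bot_iff A).2 hA, card_bot]; exact one_dvd _)
    · have := (h2.prime (inf_lt_right.2 hA) hk).2
      rw [inf_relIndex_right, relIndex_ker] at this
      exact isNilpotent_of_fpf_of_card_dvd_prime le_normalizer_of_normal h'.fpf this dvd_rfl

end Cfsg.Agent.Mod
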